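import Groth.Agent.MdlSection.Restr
import Groth.Agent.MdlInter.Torsion
import Groth.Agent.MdlInter.Genus
import Groth.Agent.MdlInter.Combo
import Groth.Agent.H23.PicInv

/-!
# Divisors on the closed fibre whose functions form a field
-/

noncomputable section

set_option autoImplicit false
set_option linter.style.haveILetI false
set_option linter.unusedSectionVars false
set_option backward.isDefEq.respectTransparency false
set_option backward.isDefEq.respectTransparency.types false
set_option maxHeartbeats 1000000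

universe u

open CategoryTheory CategoryTheory.Limits AlgebraicGeometry TopologicalSpace
open Groth.Agent Groth.Agent.MdlInter
open Groth.Agent.PnCoh.Finite (mapLin)
open Groth.Agent.DepthTwist (stI)
open scoped Groth.Agent.H23.PicMul

namespace Groth.Agent.MdlSection

/-- A common element of pairwise incomparable principal primes lies in their product. -/
theorem mem_prod_of_mem {A : Type*} [CommRing A] {α : Type*} (q : α → Ideal A) (r : α → A)
    (hr : ∀ i, q i = Ideal.span {r i}) (s : Finset α) (hp : ∀ i ∈ s, (q i).IsPrime)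
    (hinc : ∀ i ∈ s, ∀ j ∈ s, q j ≤ q i → i = j) (g : A) (hg : ∀ i ∈ s, g ∈ q i) :
    g ∈ ∏ i ∈ s, q i := by
  classical
  induction s using Finset.induction_on generalizing g with
  | empty => simp
  | insert a s ha ih =>
    rw [Finset.prod_insert ha]
    have hga := hg a (Finset.mem_insert_self _ _)
    rw [hr a, Ideal.mem_span_singleton] at hga
    obtain ⟨c, rfl⟩ := hga
    refine Ideal.mul_mem_mul (hr a ▸ Ideal.mem_span_singleton_self _) (ih (fun i hi => hp i (Finset.mem_insert_of_mem hi))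
      (fun i hi j hj => hinc i (Finset.mem_insert_of_mem hi) j (Finset.mem_insert_of_mem hj)) c fun i hi => ?_)
    refine ((hp i (Finset.mem_insert_of_mem hi)).mem_or_mem (hg i (Finset.mem_insert_of_mem hi))).resolve_left fun h => ?_
    have hle : q a ≤ q i := by rw [hr a, Ideal.span_le]; simpa using h
    exact ha (hinc i (Finset.mem_insert_of_mem hi) a (Finset.mem_insert_self _ _) hle ▸ hi)

variable {R : Type u} [CommRing R] [IsDomain R] [IsDiscreteValuationRing R]
  {C X : Scheme.{u}} {f : C ⟶ Spec (CommRingCat.of (FractionRing R))} {p : X ⟶ Spec (CommRingCat.of R)}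
  {n : ℕ} {Γ : Fin n → ArSurf.VertComp R (Over.mk p)}

/-- The reduced closed fibre is the sum of the components. -/
theorem redFibreIdeal_eq (S : Setting p Γ) :
    Models.redFibreIdeal R (Over.mk p) = ∏ i, comp Γ i ^ 1 := by
  classical
  have hle : ∀ i, Models.redFibreIdeal R (Over.mk p) ≤ comp Γ i := by
    intro i
    haveI : IsClosedImmersion (iotaX (Γ i)) := (Γ i).isClosedImmersion
    obtain ⟨z, hz⟩ := H23.RedSub.exists_lift (iotaX (Γ i)) (redFibι p) (by
    rw [range_redFibι]
    exact fun y hy => ((MdlInter.mem_range_iff (iotaX (Γ i))).1 hy).mem_closed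
      ((Models.isClosed_specialFibreSet R (Over.mk p))) (S.gp_mem i))
    show Models.redFibreIdeal R (Over.mk p) ≤ (iotaX (Γ i)).ker
    rw [← hz]
    exact (Scheme.IdealSheafData.ker_subschemeι _).ge.trans (Scheme.Hom.le_ker_comp _ _)
  refine ext_stI fun U x hx => le_antisymm ?_ ?_
  · rintro y hy
    show y ∈ stI (∏ i, comp Γ i ^ 1) U hx
    obtain ⟨ϖ, hϖ⟩ := IsDiscreteValuationRing.exists_irreducible R
    choose r hr he using fun i => S.exists_span hϖ.maximalIdeal_eq hϖ.ne_zero U hx i
    let s := Finset.univ.filter fun i => gp Γ i ⤳ x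
    rw [stI_prod, ← Finset.prod_subset (Finset.subset_univ s) (fun i _ hi => by
      rw [stI_pow, stI_of_not_specializes _ U hx (fun h => hi (Finset.mem_filter.2 ⟨Finset.mem_univ _, h⟩)),
        ← Ideal.one_eq_top, one_pow])]
    simp only [stI_pow, pow_one]
    refine mem_prod_of_mem _ r he s (fun i hi => S.isPrime_of_specializes U hx (Finset.mem_filter.1 hi).2)
      (fun i hi j hj h => S.incomparable U hx i j (S.isPrime_of_specializes U hx (Finset.mem_filter.1 hi).2)
        (S.isPrime_of_specializes U hx (Finset.mem_filter.1 hj).2) h) _ fun i _ => ?_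
    exact Ideal.map_mono (hle i U) hy
  · refine Ideal.map_mono ?_
    exact (Scheme.IdealSheafData.le_support_iff_le_vanishingIdeal.1 (supp_le S)) U
where
  supp_le (S : Setting p Γ) : (⟨Models.specialFibreSet R (Over.mk p), Models.isClosed_specialFibreSet R (Over.mk p)⟩ :
      Closeds X) ≤ (∏ i, comp Γ i ^ 1).support := by
    intro y hy
    obtain ⟨i, hi⟩ := S.exists_gp hy
    have h1 : y ∈ ((comp Γ i).support : Set X) := by
      rw [comp, Scheme.Hom.support_ker]
      exact subset_closure ((MdlInter.mem_range_iff (X := X) (Γ i).ι).2 hi)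
    have h2 : (∏ j, comp Γ j ^ 1) ≤ comp Γ i := by
      intro U
      classical
      rw [← Finset.mul_prod_erase Finset.univ _ (Finset.mem_univ i), pow_one, Scheme.IdealSheafData.ideal_mul, Pi.mul_apply]
      exact Ideal.mul_le_left
    exact Scheme.IdealSheafData.support_antitone h2 h1

section Field

variable (hH0 : IsIso f.appTop) (hX : Models.IsRegularProperModel R X p C f)

include hH0 hX in
theorem connectedSpace_redFib : ConnectedSpace ↥(redFib p) := by
  obtain ⟨h, hne⟩ := isPreconnected_specialFibreSet hH0 hX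
  haveI : ConnectedSpace ↥(Set.range (redFibι p)) := by
    refine isConnected_iff_connectedSpace.1 ?_
    rw [range_redFibι]
    exact ⟨hne, h⟩
  exact (redFibι p).isClosedEmbedding.isEmbedding.toHomeomorph.connectedSpace_iff.2 inferInstance

include hH0 hX in
theorem isField_redFib : IsField Γ(redFib p, ⊤) := by
  haveI := hX.2.1
  obtain ⟨z, hz1, hz2, hz⟩ := exists_lift_redFib (p := p) _ IsLocalRing.residue_surjective range_specResidue
  let s := Spec.map (CommRingCat.ofHom (IsLocalRing.residue R))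
  letI : (redFib p).Over (Spec (CommRingCat.of (IsLocalRing.ResidueField R))) := ⟨z ≫ pullback.snd p s⟩
  haveI : IsProper ((redFib p) ↘ Spec (CommRingCat.of (IsLocalRing.ResidueField R))) := by
    haveI : IsProper (pullback.snd p s) := MorphismProperty.pullback_snd (P := @IsProper) p s inferInstance
    exact inferInstanceAs (IsProper (z ≫ pullback.snd p s))
  haveI : IsReduced (redFib p) := H23.RedSub.isReduced_vanishingIdeal _
  haveI := connectedSpace_redFib hH0 hX
  exact GeomField.isField_globalFunctions (IsLocalRing.ResidueField R) (redFib p)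

end Field

variable (Γ) in
/-- The functions on the divisor with these multiplicities form a field. -/
def FieldDiv (a : Fin n → ℕ) : Prop := IsField ↑(Γ((∏ i, comp Γ i ^ a i).subscheme, ⊤))

theorem fieldDiv_one (hH0 : IsIso f.appTop) (hX : Models.IsRegularProperModel R X p C f) (S : Setting p Γ) :
    FieldDiv Γ (fun _ => 1) := by
  show IsField ↑(Γ((∏ i, comp Γ i ^ 1).subscheme, ⊤))
  rw [← redFibreIdeal_eq S]
  exact isField_redFib hH0 hX

theorem finite_artinian (S : Setting p Γ) (L : Fin n → X.Modules)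
    (hL : ∀ i, ClSub.IsInverseOf (L i) (ClSub.idealMod (comp Γ i))) [IsProper p] (a : Fin n → ℕ) :
    (((∏ i, comp Γ i ^ a i).subschemeι ≫ p).appTop.hom.comp
        (Scheme.ΓSpecIso (CommRingCat.of R)).inv.hom).Finite ∧
      IsArtinianRing ↑(Γ((∏ i, comp Γ i ^ a i).subscheme, ⊤)) := by
  letI : X.Over (Spec (CommRingCat.of R)) := ⟨p⟩
  let I := ∏ i, comp Γ i ^ a i
  let φ : R →+* Γ(I.subscheme, ⊤) := Coh.toGlobal (I.subschemeι ≫ p)
  letI : Algebra R Γ(I.subscheme, ⊤) := φ.toAlgebra
  have hfl : IsFiniteLength R (Coh.HH X (ClSub.quotMod I) 0) :=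
    Module.length_ne_top_iff.1 ((S.good_quotMod L hL rfl a).1 0).1
  obtain ⟨hN, hA⟩ := isFiniteLength_iff_isNoetherian_isArtinian.1 hfl
  let e : Coh.HH X (ClSub.quotMod I) 0 ≃ₗ[R] Γ(I.subscheme, ⊤) :=
    { secEquiv I with
      map_smul' := fun c x => by
        show secEquiv I (c • x) = φ c * secEquiv I x
        refine (secEquiv_smul I c x).trans (congrArg (· * secEquiv I x) ?_)
        exact (MdlInter.toGlobal_comp_left I.subschemeι p c).symm }
  haveI : IsNoetherian R Γ(I.subscheme, ⊤) := isNoetherian_of_linearEquiv e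
  haveI : IsArtinian R Γ(I.subscheme, ⊤) := isArtinian_of_linearEquiv e
  exact ⟨(inferInstance : Module.Finite R Γ(I.subscheme, ⊤)), isArtinian_of_tower R inferInstance⟩

theorem fieldDiv_step (S : Setting p Γ) (L : Fin n → X.Modules)
    (hL : ∀ i, ClSub.IsInverseOf (L i) (ClSub.idealMod (comp Γ i))) [IsProper p] (a : Fin n → ℕ) (i : Fin n)
    (hpos : 0 < ∑ j, (a j : ℤ) * ArSurf.inter R (Over.mk p) (L j) (Γ i)) (ha : FieldDiv Γ a) :
    FieldDiv Γ (fun j => a j + if j = i then 1 else 0) := by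
  classical
  letI : X.Over (Spec (CommRingCat.of R)) := ⟨p⟩
  obtain ⟨d, hd, -, hker⟩ := exists_ker_le S L hL (show (X ↘ Spec (CommRingCat.of R)) = p from rfl) a i
  have h0 := hker _ _ rfl rfl (prod_le S a i)
  rw [hd hpos, nonpos_iff_eq_zero, Module.length_eq_zero_iff] at h0
  let φ := (Scheme.IdealSheafData.inclusion (prod_le S a i)).appTop
  have hinj : Function.Injective φ := by
    rw [injective_iff_map_eq_zero]
    intro t ht
    obtain ⟨x, rfl⟩ := (secEquiv _).surjective t
    rw [← secEquiv_mapLin (R := R), map_eq_zero_iff _ (secEquiv _).injective] at ht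
    have hx : (⟨x, ht⟩ : LinearMap.ker (mapLin R (SurfRR.qmap (prod_le S a i)) 0)) = 0 := Subsingleton.elim _ _
    rw [show x = 0 from congrArg Subtype.val hx, map_zero]
  letI := ha.toField
  haveI : IsDomain ↑(Γ((∏ j, comp Γ j ^ (a j + if j = i then 1 else 0)).subscheme, ⊤)) :=
    Function.Injective.isDomain φ.hom hinj
  haveI := (finite_artinian S L hL fun j => a j + if j = i then 1 else 0).2
  exact IsArtinianRing.isField_of_isDomain _

/-- A divisor strictly between the reduced fibre and the primitive one can be enlarged. -/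
theorem exists_incr_prim (S : Setting p Γ) (L : Fin n → X.Modules)
    (hL : ∀ i, ClSub.IsInverseOf (L i) (ClSub.idealMod (comp Γ i))) [IsProper p]
    (hmeet : ∀ I : Finset (Fin n), I.Nonempty → I ≠ Finset.univ →
      ∃ i ∈ I, ∃ j ∉ I, ArSurf.inter R (Over.mk p) (L j) (Γ i) ≠ 0)
    (m : Fin n → ℕ) (hgcd : Finset.univ.gcd m = 1)
    (hsum : ∀ i, ∑ j, (m j : ℤ) * ArSurf.inter R (Over.mk p) (L j) (Γ i) = 0)
    (a : Fin n → ℕ) (h1 : ∀ j, 1 ≤ a j) (hle : ∀ j, a j ≤ m j) (hne : a ≠ m) :
    ∃ i, a i < m i ∧ 0 < ∑ j, (a j : ℤ) * ArSurf.inter R (Over.mk p) (L j) (Γ i) := by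
  classical
  have hmpos : ∀ j, 0 < m j := fun j => (h1 j).trans (hle j)
  let r : Fin n → ℚ := fun j => (a j : ℚ) / m j
  obtain ⟨j', hj'⟩ : ∃ j, a j < m j := by
    by_contra h
    push Not at h
    exact hne (funext fun j => le_antisymm (hle j) (h j))
  haveI : Nonempty (Fin n) := ⟨j'⟩
  obtain ⟨j₀, -, hj₀⟩ := Finset.exists_min_image Finset.univ r Finset.univ_nonempty
  have hr₀ : r j₀ < 1 := (hj₀ j' (Finset.mem_univ _)).trans_lt (by
    rw [div_lt_one (by exact_mod_cast hmpos j')]
    exact_mod_cast hj')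
  have hlt₀ : a j₀ < m j₀ := by
    rw [div_lt_one (by exact_mod_cast hmpos j₀)] at hr₀
    exact_mod_cast hr₀
  obtain ⟨i, hi, l, hl, hil⟩ := hmeet (Finset.univ.filter fun j => r j = r j₀) ⟨j₀, by simp⟩
    (fun h => by
      have hall : ∀ j, m j₀ ∣ a j₀ * m j := fun j => by
        have := Finset.eq_univ_iff_forall.1 h j
        simp only [Finset.mem_filter, Finset.mem_univ, true_and, r] at this
        rw [div_eq_div_iff (by exact_mod_cast (hmpos j).ne') (by exact_mod_cast (hmpos j₀).ne')] at this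
        exact Dvd.intro_left (a j) (by exact_mod_cast this)
      have hd : m j₀ ∣ a j₀ := by
        have := Finset.dvd_gcd (s := Finset.univ) fun j _ => hall j
        rwa [Finset.gcd_mul_left, hgcd, normalize_eq, mul_one] at this
      exact absurd (Nat.le_of_dvd (h1 j₀) hd) (not_le.2 hlt₀))
  simp only [Finset.mem_filter, Finset.mem_univ, true_and] at hi hl
  have hilt : a i < m i := by
    have h : r i < 1 := hi ▸ hr₀
    rw [div_lt_one (by exact_mod_cast hmpos i)] at h
    exact_mod_cast h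
  refine ⟨i, hilt, ?_⟩
  have hcross : ∀ j, (a i : ℤ) * m j ≤ (a j : ℤ) * m i := fun j => by
    have h : r i ≤ r j := hi ▸ hj₀ j (Finset.mem_univ _)
    rw [div_le_div_iff₀ (by exact_mod_cast hmpos i) (by exact_mod_cast hmpos j)] at h
    exact_mod_cast h
  have hstrict : (a i : ℤ) * m l < (a l : ℤ) * m i := by
    refine lt_of_le_of_ne (hcross l) fun h => hl ?_
    rw [← hi]
    simp only [r]
    rw [div_eq_div_iff (by exact_mod_cast (hmpos l).ne') (by exact_mod_cast (hmpos i).ne')]
    exact_mod_cast h.symm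
  have hpos : 0 < ∑ j, ((a j : ℤ) * m i - (a i : ℤ) * m j) * ArSurf.inter R (Over.mk p) (L j) (Γ i) := by
    refine Finset.sum_pos' (fun j _ => ?_) ⟨l, Finset.mem_univ _, ?_⟩
    · rcases eq_or_ne i j with rfl | hij
      · simp
      · exact mul_nonneg (sub_nonneg.2 (hcross j)) (S.inter_nonneg L hL hij)
    · exact mul_pos (sub_pos.2 hstrict) (lt_of_le_of_ne
        (S.inter_nonneg L hL fun h => hl (h ▸ hi)) (Ne.symm hil))
  have e : ∑ j, ((a j : ℤ) * m i - (a i : ℤ) * m j) * ArSurf.inter R (Over.mk p) (L j) (Γ i) =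
      (m i : ℤ) * ∑ j, (a j : ℤ) * ArSurf.inter R (Over.mk p) (L j) (Γ i) := by
    have e1 : ∀ j, ((a j : ℤ) * m i - (a i : ℤ) * m j) * ArSurf.inter R (Over.mk p) (L j) (Γ i) =
        (m i : ℤ) * ((a j : ℤ) * ArSurf.inter R (Over.mk p) (L j) (Γ i)) -
          (a i : ℤ) * ((m j : ℤ) * ArSurf.inter R (Over.mk p) (L j) (Γ i)) := fun j => by ring
    rw [Finset.sum_congr rfl fun j _ => e1 j, Finset.sum_sub_distrib, ← Finset.mul_sum, ← Finset.mul_sum,
      hsum i, mul_zero, sub_zero]
  rw [e] at hpos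
  exact pos_of_mul_pos_right hpos (Int.natCast_nonneg _)

/-- The primitive multiplicities. -/
abbrev prim (Γ : Fin n → ArSurf.VertComp R (Over.mk p)) (i : Fin n) : ℕ :=
  Models.mult R (Over.mk p) (Γ i) / Models.multGcd R (Over.mk p) Γ

theorem nonempty_fin (hH0 : IsIso f.appTop) (hX : Models.IsRegularProperModel R X p C f) (S : Setting p Γ) :
    Nonempty (Fin n) := by
  obtain ⟨z, hz⟩ := (isPreconnected_specialFibreSet hH0 hX).2
  exact ⟨(S.exists_gp hz).choose⟩

theorem multGcd_dvd (i : Fin n) : Models.multGcd R (Over.mk p) Γ ∣ Models.mult R (Over.mk p) (Γ i) :=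
  Finset.gcd_dvd (Finset.mem_univ i)

theorem mul_prim (i : Fin n) :
    Models.multGcd R (Over.mk p) Γ * prim Γ i = Models.mult R (Over.mk p) (Γ i) :=
  Nat.mul_div_cancel' (multGcd_dvd i)

theorem one_le_prim (S : Setting p Γ) (i : Fin n) : 1 ≤ prim Γ i := by
  have h := mul_prim (Γ := Γ) i
  have h2 := S.mult_pos i
  rcases Nat.eq_zero_or_pos (prim Γ i) with h0 | h0
  · rw [h0, mul_zero] at h; omega
  · exact h0

theorem sum_prim_inter (S : Setting p Γ) (L : Fin n → X.Modules)
    (hL : ∀ i, ClSub.IsInverseOf (L i) (ClSub.idealMod (comp Γ i))) [IsProper p] (i : Fin n) :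
    ∑ j, (prim Γ j : ℤ) * ArSurf.inter R (Over.mk p) (L j) (Γ i) = 0 := by
  have h := S.sum_mult_inter L hL i
  have hd : (Models.multGcd R (Over.mk p) Γ : ℤ) ≠ 0 := by
    exact_mod_cast (Nat.pos_of_dvd_of_pos (multGcd_dvd i) (S.mult_pos i)).ne'
  refine (mul_eq_zero.1 ?_).resolve_left hd
  rw [Finset.mul_sum]
  refine Eq.trans (Finset.sum_congr rfl fun j _ => ?_) h
  rw [← mul_assoc, ← Nat.cast_mul, mul_prim]

theorem exists_chain (hH0 : IsIso f.appTop) (hX : Models.IsRegularProperModel R X p C f) (S : Setting p Γ)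
    (L : Fin n → X.Modules) (hL : ∀ i, ClSub.IsInverseOf (L i) (ClSub.idealMod (comp Γ i))) :
    ∃ (s : ℕ) (a : Fin (s + 1) → Fin n → ℕ), (a 0 = fun _ => 1) ∧ (a (Fin.last s) = prim Γ) ∧
      (∀ j : Fin s, ∃ i, a j.succ = a j.castSucc + Pi.single i 1 ∧
        0 < ∑ k, (a j.castSucc k : ℤ) * ArSurf.inter R (Over.mk p) (L k) (Γ i)) ∧
      ∀ j, FieldDiv Γ (a j) := by
  classical
  haveI := hX.2.1
  haveI := nonempty_fin hH0 hX S
  have hgcd : Finset.univ.gcd (prim Γ) = 1 :=
    Finset.gcd_div_eq_one (Finset.mem_univ (Classical.arbitrary (Fin n))) (S.mult_pos _).ne'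
  have key : ∀ (N : ℕ) (b : Fin n → ℕ), (∀ j, 1 ≤ b j) → (∀ j, b j ≤ prim Γ j) →
      ∑ j, (prim Γ j - b j) = N → FieldDiv Γ b →
      ∃ (s : ℕ) (a : Fin (s + 1) → Fin n → ℕ), a 0 = b ∧ (a (Fin.last s) = prim Γ) ∧
        (∀ j : Fin s, ∃ i, a j.succ = a j.castSucc + Pi.single i 1 ∧
          0 < ∑ k, (a j.castSucc k : ℤ) * ArSurf.inter R (Over.mk p) (L k) (Γ i)) ∧
        ∀ j, FieldDiv Γ (a j) := by
    intro N
    induction N using Nat.strong_induction_on with
    | h N ih =>
      intro b h1 hle hN hb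
      by_cases hne : b = prim Γ
      · exact ⟨0, fun _ => b, rfl, hne, fun j => j.elim0, fun _ => hb⟩
      obtain ⟨i, hi, hpos⟩ := exists_incr_prim S L hL (exists_meeting hH0 hX S.list L hL) _ hgcd
        (sum_prim_inter S L hL) b h1 hle hne
      have hb' : b + Pi.single i 1 = fun j => b j + if j = i then 1 else 0 := funext fun j => by
        simp [Pi.single_apply]
      have hlt : ∑ j, (prim Γ j - (b + Pi.single i 1 : Fin n → ℕ) j) < N := by
        rw [← hN, hb']
        exact Finset.sum_lt_sum (fun j _ => by simp only; split_ifs <;> omega) ⟨i, Finset.mem_univ _, by simp; omega⟩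
      obtain ⟨s, a, ha0, hal, hst, hfd⟩ := ih _ hlt (b + Pi.single i 1) (fun j => le_add_right (h1 j))
        (fun j => by
          rw [hb']
          rcases eq_or_ne j i with rfl | hj
          · simp only [if_true]; omega
          · simp [hj, hle j]) rfl (hb' ▸ fieldDiv_step S L hL b i hpos hb)
      refine ⟨s + 1, Fin.cons b a, rfl, ?_, fun j => ?_, fun j => ?_⟩
      · rw [← Fin.succ_last, Fin.cons_succ, hal]
      · induction j using Fin.cases with
        | zero => exact ⟨i, by simpa using ha0, by simpa using hpos⟩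
        | succ j => simpa only [Fin.cons_succ, ← Fin.succ_castSucc] using hst j
      · induction j using Fin.cases with
        | zero => exact hb
        | succ j => exact hfd j
  exact key _ _ (fun _ => le_rfl) (one_le_prim S) rfl (fieldDiv_one hH0 hX S)

theorem exists_L (S : Setting p Γ) :
    ∃ L : Fin n → X.Modules, ∀ i, ClSub.IsInverseOf (L i) (ClSub.idealMod (comp Γ i)) := by
  have hex : ∀ i, ∃ D : X.Modules, ClSub.IsInverseOf D (ClSub.idealMod (comp Γ i)) := fun i => by
    obtain ⟨D, hD, ⟨e⟩⟩ := H23.PicInv.exists_inverse ((S8914.result (comp Γ i)).2 (S.isEffCartier i))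
    refine ⟨D, H23.PicMul.cl_eq_iff.1 ?_⟩
    rw [H23.PicMul.cl_tensor, mul_comm, ← H23.PicMul.cl_tensor]
    exact H23.PicMul.cl_eq_iff.2 ⟨e⟩
  choose L hL using hex
  exact ⟨L, hL⟩

theorem euler_prim (hC : Curve.IsSmoothProperCurve (FractionRing R) C f) (hH0 : IsIso f.appTop)
    (hX : Models.IsRegularProperModel R X p C f) (hΓ : Models.IsComponentList R (Over.mk p) Γ) :
    (1 : ℤ) - (Models.curveGenus (FractionRing R) C f : ℤ) =
      (Models.multGcd R (Over.mk p) Γ : ℤ) *
        ((Models.lengthH R (Over.mk p) (ClSub.quotMod (∏ i, comp Γ i ^ prim Γ i)) 0 : ℤ) -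
          (Models.lengthH R (Over.mk p) (ClSub.quotMod (∏ i, comp Γ i ^ prim Γ i)) 1 : ℤ)) := by
  haveI := hX.2.1
  have S := setting_of_model hX hΓ
  obtain ⟨L, hL⟩ := exists_L S
  letI : X.Over (Spec (CommRingCat.of R)) := ⟨p⟩
  have h := S.two_mul_chiLen L hL (show (X ↘ Spec (CommRingCat.of R)) = p from rfl) (prim Γ)
  have hg := genus_formula hC hH0 hX hΓ L hL
  have hz : ∑ i, ∑ j, (prim Γ i : ℤ) * (prim Γ j : ℤ) * ArSurf.inter R (Over.mk p) (L j) (Γ i) = 0 :=
    Finset.sum_eq_zero fun i _ => by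
      simp only [mul_assoc]
      rw [← Finset.mul_sum, sum_prim_inter S L hL i, mul_zero]
  rw [hz, neg_zero, zero_add] at h
  have hm : ∀ i, (Models.mult R (Over.mk p) (Γ i) : ℤ) = (Models.multGcd R (Over.mk p) Γ : ℤ) * (prim Γ i : ℤ) :=
    fun i => by rw [← Nat.cast_mul, mul_prim]
  simp only [hm, mul_assoc] at hg
  rw [← Finset.mul_sum] at hg
  rw [← h] at hg
  show (1 : ℤ) - _ = _ * chiLen R (ClSub.quotMod (∏ i, comp Γ i ^ prim Γ i))
  linarith

end Groth.Agent.MdlSection
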