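import Groth.Agent.MdlSection.Neg
import Groth.Agent.MdlInter.Euler
import Groth.Agent.MdlInter.Deg
import Groth.Agent.MdlInter.Conn
import Groth.Agent.ParShLib.ResStalk

/-!
# Functions on the closed fibre when some component has multiplicity one
-/

noncomputable section

set_option autoImplicit false
set_option linter.style.haveILetI false
set_option linter.unusedSectionVars false
set_option backward.isDefEq.respectTransparency false
set_option backward.isDefEq.respectTransparency.types false
set_option maxHeartbeats 1000000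

universe u

open CategoryTheory CategoryTheory.Limits AlgebraicGeometry TopologicalSpace
open Groth.Agent Groth.Agent.MdlInter
open Groth.Agent.PnCoh.Finite (mapLin)
open scoped Groth.Agent.H23.PicMul

namespace Groth.Agent.MdlSection

variable {R : Type u} [CommRing R] [IsDomain R] [IsDiscreteValuationRing R]
  {X : Scheme.{u}} {p : X ⟶ Spec (CommRingCat.of R)}

theorem length_push_zero [X.Over (Spec (CommRingCat.of R))] [IsProper p]
    (hp : (X ↘ Spec (CommRingCat.of R)) = p) (G : ArSurf.VertComp R (Over.mk p))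
    {M : G.curve.left.Modules} (hM : Coh.IsCoh M) :
    Module.length R (Coh.HH X ((Coh.push (iotaX G)).obj M) 0) =
      Module.finrank (IsLocalRing.ResidueField R) (Coh.HH G.curve.left M 0) := by
  haveI : IsClosedImmersion (iotaX G) := G.isClosedImmersion
  haveI : IsProper (G.curve.left ↘ Spec (CommRingCat.of (IsLocalRing.ResidueField R))) := isProper_curve G
  haveI := CurveCohLib.isNoetherian_of_proper (k := IsLocalRing.ResidueField R) (X := G.curve.left)
  let ρk := Coh.toGlobal (G.curve.left ↘ Spec (CommRingCat.of (IsLocalRing.ResidueField R)))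
  let ρ' : R →+* Coh.Γtop G.curve.left := ρk.comp (IsLocalRing.residue R)
  have hρ : ∀ a, ρ' a = (iotaX G).appTop (Coh.toGlobal (X ↘ Spec (CommRingCat.of R)) a) := by
    intro a
    have h1 := congrArg (fun q : G.curve.left ⟶ Spec (CommRingCat.of R) =>
      q.appTop ((Scheme.ΓSpecIso (CommRingCat.of R)).inv a)) G.w
    simp only [Scheme.Hom.comp_appTop, ConcreteCategory.comp_apply] at h1
    rw [hp]
    refine Eq.trans ?_ h1.symm
    refine congrArg (G.curve.hom.appTop) ?_
    exact (ConcreteCategory.congr_hom (Scheme.ΓSpecIso_inv_naturality (CommRingCat.ofHom (IsLocalRing.residue R))) a)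
  obtain ⟨e⟩ := QCoh.HH_push_linear (iotaX G) (Coh.toGlobal (X ↘ Spec (CommRingCat.of R))) ρ' hρ hM.1 0
  haveI := CurveCohLib.finite_HH (k := IsLocalRing.ResidueField R) hM 0
  letI := QCoh.modHH ρ' M 0
  refine e.length_eq.symm.trans ?_
  rw [IntThLib.length_eq_of_surjective_map (IsLocalRing.residue R) IsLocalRing.residue_surjective
    (Coh.HH G.curve.left M 0) (fun r m => rfl)]
  exact Module.length_eq_finrank _ _

variable {n : ℕ} {Γ : Fin n → ArSurf.VertComp R (Over.mk p)}

/-- The length of the functions on the divisor `∑ a_j Γ_j`. -/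
def len0 [X.Over (Spec (CommRingCat.of R))] (Γ : Fin n → ArSurf.VertComp R (Over.mk p)) (a : Fin n → ℕ) : ℕ∞ :=
  Module.length R (Coh.HH X (ClSub.quotMod (∏ j, comp Γ j ^ a j)) 0)

theorem exists_ker_le (S : Setting p Γ) (L : Fin n → X.Modules)
    (hL : ∀ i, ClSub.IsInverseOf (L i) (ClSub.idealMod (comp Γ i)))
    [X.Over (Spec (CommRingCat.of R))] [IsProper p] (hp : (X ↘ Spec (CommRingCat.of R)) = p)
    (b : Fin n → ℕ) (i : Fin n) :
    ∃ d : ℕ∞, (0 < ∑ j, (b j : ℤ) * ArSurf.inter R (Over.mk p) (L j) (Γ i) → d = 0) ∧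
      (b = 0 → d = (Models.wdeg R (Over.mk p) (Γ i) : ℕ∞)) ∧
      ∀ (A B : X.IdealSheafData), A = (∏ j, comp Γ j ^ (b j + if j = i then 1 else 0)) → B = (∏ j, comp Γ j ^ b j) →
        ∀ h : A ≤ B, Module.length R (LinearMap.ker (mapLin R (SurfRR.qmap h) 0)) ≤ d := by
  classical
  haveI := S.noeth
  let J := ∏ j, comp Γ j ^ b j
  have hJi : ∏ j, comp Γ j ^ (b j + if j = i then 1 else 0) = J * comp Γ i := by
    simp only [pow_add, Finset.prod_mul_distrib, pow_ite, pow_one, pow_zero, Finset.prod_ite_eq', Finset.mem_univ,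
      if_true, J]
  have hJ : PicF.IsInvertible (ClSub.idealMod J) := (S8914.result J).2 (S.isEffCartier_prod b)
  have hle : J * comp Γ i ≤ J := fun U => by
    rw [Scheme.IdealSheafData.ideal_mul, Pi.mul_apply]
    exact Ideal.mul_le_left
  obtain ⟨A, a', w, hses, ⟨eA⟩⟩ := SurfRR.exists_shortExact_mul J (comp Γ i) hJ hle
  let G := Γ i
  haveI : IsClosedImmersion (iotaX G) := G.isClosedImmersion
  obtain ⟨eFull⟩ := nonempty_push_pullback (iotaX G) (ClSub.idealMod J) eA
  let Mι := (Scheme.Modules.pullback (iotaX G)).obj (ClSub.idealMod J)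
  haveI : IsProper (G.curve.left ↘ Spec (CommRingCat.of (IsLocalRing.ResidueField R))) := isProper_curve G
  haveI := CurveCohLib.isNoetherian_of_proper (k := IsLocalRing.ResidueField R) (X := G.curve.left)
  have hMι : PicF.IsInvertible Mι := PicClLib.isInvertible_pullback (iotaX G) hJ
  refine ⟨(Module.finrank (IsLocalRing.ResidueField R) (Coh.HH G.curve.left Mι 0) : ℕ∞), fun hpos => ?_,
    fun hb => ?_, ?_⟩
  · have hinter := S.inter_eq L hL hJ CurveDeg.isInvertible_structureModule (fun j => -(b j : ℤ))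
      (by rw [← H23.PicMul.one_def, one_mul, S.cl_idealMod_eq_comboCl L hL b]) i
    rw [inter_structure, zero_add] at hinter
    have hdeg : Curv2.deg (IsLocalRing.ResidueField R) G.curve.left Mι 1 < 0 := by
      rw [← MdlInter.curveDeg_eq_deg (IsLocalRing.ResidueField R) G.dim_eq (AmpleVan.isCoh_invertible hMι).1]
      show ArSurf.inter R (Over.mk p) (ClSub.idealMod J) (Γ i) < 0
      rw [hinter]
      have hs : ∑ j, -(b j : ℤ) * ArSurf.inter R (Over.mk p) (L j) (Γ i) =
          -∑ j, (b j : ℤ) * ArSurf.inter R (Over.mk p) (L j) (Γ i) := by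
        rw [← Finset.sum_neg_distrib]; exact Finset.sum_congr rfl fun j _ => by ring
      omega
    haveI := subsingleton_h0_of_deg_neg (IsLocalRing.ResidueField R) G.dim_eq hMι hdeg
    rw [Module.finrank_zero_of_subsingleton, Nat.cast_zero]
  · have hcl : PicF.cl Mι = PicF.cl (Coh.structureModule G.curve.left) := by
      show PicF.pullCl (iotaX G) (PicF.cl (ClSub.idealMod J)) = _
      rw [show J = 1 from Finset.prod_eq_one fun j _ => by rw [hb]; exact pow_zero _, S.cl_idealMod_one, H23.PicMul.pullCl_one, H23.PicMul.one_def]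
    obtain ⟨e⟩ := H23.PicMul.cl_eq_iff.1 hcl
    rw [(CurveCohLib.hhEquiv (k := IsLocalRing.ResidueField R) e 0).finrank_eq]
    rfl
  · intro A' B' hA hB h
    obtain rfl : A' = J * comp Γ i := hA.trans hJi
    obtain rfl : B' = J := hB
    have hk := CurveCohLib.ker_mapLin_g R hses 0
    refine le_trans (le_of_eq (congrArg (fun N : Submodule R _ => Module.length R N) hk)) ?_
    refine le_trans (Module.length_le_of_surjective (mapLin R a' 0).rangeRestrict
      (mapLin R a' 0).surjective_rangeRestrict) ?_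
    rw [← length_push_zero hp G (AmpleVan.isCoh_invertible hMι)]
    exact le_of_eq (OmegaPn.HHiso R eFull 0).length_eq.symm

/-- The divisor `∑ a_j Γ_j` grows monotonically. -/
theorem prod_le (S : Setting p Γ) (b : Fin n → ℕ) (i : Fin n) :
    (∏ j, comp Γ j ^ (b j + if j = i then 1 else 0)) ≤ ∏ j, comp Γ j ^ b j := by
  classical
  have hJi : ∏ j, comp Γ j ^ (b j + if j = i then 1 else 0) = (∏ j, comp Γ j ^ b j) * comp Γ i := by
    simp only [pow_add, Finset.prod_mul_distrib, pow_ite, pow_one, pow_zero, Finset.prod_ite_eq', Finset.mem_univ,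
      if_true]
  rw [hJi]
  intro U
  rw [Scheme.IdealSheafData.ideal_mul, Pi.mul_apply]
  exact Ideal.mul_le_left

theorem len0_add_le (S : Setting p Γ) (L : Fin n → X.Modules)
    (hL : ∀ i, ClSub.IsInverseOf (L i) (ClSub.idealMod (comp Γ i)))
    [X.Over (Spec (CommRingCat.of R))] [IsProper p] (hp : (X ↘ Spec (CommRingCat.of R)) = p)
    (b : Fin n → ℕ) (i : Fin n) :
    ∃ d : ℕ∞, (0 < ∑ j, (b j : ℤ) * ArSurf.inter R (Over.mk p) (L j) (Γ i) → d = 0) ∧
      (b = 0 → d = (Models.wdeg R (Over.mk p) (Γ i) : ℕ∞)) ∧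
      len0 Γ (fun j => b j + if j = i then 1 else 0) ≤ d + len0 Γ b := by
  classical
  obtain ⟨d, h1, h2, h3⟩ := exists_ker_le S L hL hp b i
  refine ⟨d, h1, h2, ?_⟩
  show Module.length R (Coh.HH X (ClSub.quotMod (∏ j, comp Γ j ^ (b j + if j = i then 1 else 0))) 0) ≤
    _ + Module.length R (Coh.HH X (ClSub.quotMod (∏ j, comp Γ j ^ b j)) 0)
  rw [MdlInter.length_eq_ker_add_range R (mapLin R (SurfRR.qmap (prod_le S b i)) 0)]
  exact add_le_add (h3 _ _ rfl rfl _) (Module.length_le_of_injective (Submodule.subtype _) (Submodule.injective_subtype _))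

/-- A deficient divisor containing a component with full multiplicity can be enlarged. -/
theorem exists_incr (S : Setting p Γ) (L : Fin n → X.Modules)
    (hL : ∀ i, ClSub.IsInverseOf (L i) (ClSub.idealMod (comp Γ i))) [IsProper p]
    (hmeet : ∀ I : Finset (Fin n), I.Nonempty → I ≠ Finset.univ →
      ∃ i ∈ I, ∃ j ∉ I, ArSurf.inter R (Over.mk p) (L j) (Γ i) ≠ 0)
    (a : Fin n → ℕ) (hle : ∀ j, a j ≤ Models.mult R (Over.mk p) (Γ j)) (i₁ : Fin n)
    (h₁ : a i₁ = Models.mult R (Over.mk p) (Γ i₁))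
    (hne : ∃ j, a j < Models.mult R (Over.mk p) (Γ j)) :
    ∃ i, a i < Models.mult R (Over.mk p) (Γ i) ∧
      0 < ∑ j, (a j : ℤ) * ArSurf.inter R (Over.mk p) (L j) (Γ i) := by
  classical
  set m : Fin n → ℕ := fun j => Models.mult R (Over.mk p) (Γ j) with hm
  have hmpos : ∀ j, 0 < m j := fun j => S.mult_pos j
  let r : Fin n → ℚ := fun j => (a j : ℚ) / m j
  haveI : Nonempty (Fin n) := ⟨i₁⟩
  obtain ⟨j₀, -, hj₀⟩ := Finset.exists_min_image Finset.univ r Finset.univ_nonempty
  obtain ⟨j', hj'⟩ := hne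
  have hr₀ : r j₀ < 1 := (hj₀ j' (Finset.mem_univ _)).trans_lt (by
    rw [div_lt_one (by exact_mod_cast hmpos j')]
    exact_mod_cast hj')
  have hr₁ : r i₁ = 1 := by
    simp only [r, h₁]
    exact div_self (by exact_mod_cast (hmpos i₁).ne')
  obtain ⟨i, hi, l, hl, hil⟩ := hmeet (Finset.univ.filter fun j => r j = r j₀) ⟨j₀, by simp⟩
    (fun h => by
      have := Finset.eq_univ_iff_forall.1 h i₁
      simp only [Finset.mem_filter, Finset.mem_univ, true_and, hr₁] at this
      exact hr₀.ne this.symm)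
  simp only [Finset.mem_filter, Finset.mem_univ, true_and] at hi hl
  have hilt : a i < m i := by
    have h : r i < 1 := hi ▸ hr₀
    rw [div_lt_one (by exact_mod_cast hmpos i)] at h
    exact_mod_cast h
  refine ⟨i, hilt, ?_⟩
  have hcross : ∀ j, (a i : ℤ) * m j ≤ (a j : ℤ) * m i := fun j => by
    have h : r i ≤ r j := hi ▸ hj₀ j (Finset.mem_univ _)
    rw [div_le_div_iff₀ (by exact_mod_cast hmpos i) (by exact_mod_cast hmpos j)] at h
    exact_mod_cast h
  have hstrict : (a i : ℤ) * m l < (a l : ℤ) * m i := by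
    refine lt_of_le_of_ne (hcross l) fun h => hl ?_
    rw [← hi]
    simp only [r]
    rw [div_eq_div_iff (by exact_mod_cast (hmpos l).ne') (by exact_mod_cast (hmpos i).ne')]
    exact_mod_cast h.symm
  have hsum0 := S.sum_mult_inter L hL i
  have hpos : 0 < ∑ j, ((a j : ℤ) * m i - (a i : ℤ) * m j) * ArSurf.inter R (Over.mk p) (L j) (Γ i) := by
    refine Finset.sum_pos' (fun j _ => ?_) ⟨l, Finset.mem_univ _, ?_⟩
    · rcases eq_or_ne i j with rfl | hij
      · simp
      · exact mul_nonneg (sub_nonneg.2 (hcross j)) (S.inter_nonneg L hL hij)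
    · exact mul_pos (sub_pos.2 hstrict) (lt_of_le_of_ne
        (S.inter_nonneg L hL fun h => hl (h ▸ hi)) (Ne.symm hil))
  have e : ∑ j, ((a j : ℤ) * m i - (a i : ℤ) * m j) * ArSurf.inter R (Over.mk p) (L j) (Γ i) =
      (m i : ℤ) * ∑ j, (a j : ℤ) * ArSurf.inter R (Over.mk p) (L j) (Γ i) := by
    have e1 : ∀ j, ((a j : ℤ) * m i - (a i : ℤ) * m j) * ArSurf.inter R (Over.mk p) (L j) (Γ i) =
        (m i : ℤ) * ((a j : ℤ) * ArSurf.inter R (Over.mk p) (L j) (Γ i)) -
          (a i : ℤ) * ((m j : ℤ) * ArSurf.inter R (Over.mk p) (L j) (Γ i)) := fun j => by ring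
    rw [Finset.sum_congr rfl fun j _ => e1 j, Finset.sum_sub_distrib, ← Finset.mul_sum, ← Finset.mul_sum,
      show ∑ j, (m j : ℤ) * ArSurf.inter R (Over.mk p) (L j) (Γ i) = 0 from hsum0, mul_zero, sub_zero]
  rw [e] at hpos
  exact pos_of_mul_pos_right hpos (Int.natCast_nonneg _)

/-- The functions on the closed fibre are at most the constants of a component of multiplicity one. -/
theorem len0_mult_le (S : Setting p Γ) (L : Fin n → X.Modules)
    (hL : ∀ i, ClSub.IsInverseOf (L i) (ClSub.idealMod (comp Γ i)))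
    [X.Over (Spec (CommRingCat.of R))] [IsProper p] (hp : (X ↘ Spec (CommRingCat.of R)) = p)
    (hmeet : ∀ I : Finset (Fin n), I.Nonempty → I ≠ Finset.univ →
      ∃ i ∈ I, ∃ j ∉ I, ArSurf.inter R (Over.mk p) (L j) (Γ i) ≠ 0)
    (i₁ : Fin n) (h₁ : Models.mult R (Over.mk p) (Γ i₁) = 1) :
    len0 Γ (fun j => Models.mult R (Over.mk p) (Γ j)) ≤ (Models.wdeg R (Over.mk p) (Γ i₁) : ℕ∞) := by
  classical
  haveI := S.noeth
  set m : Fin n → ℕ := fun j => Models.mult R (Over.mk p) (Γ j) with hm
  have key : ∀ (N : ℕ) (a : Fin n → ℕ), (∀ j, a j ≤ m j) → a i₁ = 1 → ∑ j, (m j - a j) ≤ N →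
      len0 Γ m ≤ len0 Γ a := by
    intro N
    induction N with
    | zero =>
      intro a ha _ hN
      have : a = m := funext fun j => le_antisymm (ha j)
        (by have := Finset.sum_eq_zero_iff.1 (Nat.le_zero.1 hN) j (Finset.mem_univ j); omega)
      rw [this]
    | succ N ih =>
      intro a ha h1 hN
      by_cases hne : ∃ j, a j < m j
      swap
      · push Not at hne
        rw [show a = m from funext fun j => le_antisymm (ha j) (hne j)]
      obtain ⟨i, hi', hpos⟩ := exists_incr S L hL hmeet a ha i₁ (h1.trans h₁.symm) hne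
      have hi : a i < m i := hi'
      obtain ⟨d, hd, -, hle⟩ := len0_add_le S L hL hp a i
      rw [hd hpos, zero_add] at hle
      refine le_trans (ih _ (fun j => ?_) ?_ ?_) hle
      · rcases eq_or_ne j i with rfl | hj
        · simp only [if_true]; omega
        · simp [hj, ha j]
      · have hne' : i₁ ≠ i := fun h => by
          rw [← h, h1] at hi
          exact (Nat.lt_irrefl 1) (h₁ ▸ hi)
        simp [hne', h1]
      · have hlt : ∑ j, (m j - (a j + if j = i then 1 else 0)) < ∑ j, (m j - a j) :=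
          Finset.sum_lt_sum (fun j _ => by omega) ⟨i, Finset.mem_univ _, by simp; omega⟩
        omega
  obtain ⟨d, -, hd, hle⟩ := len0_add_le S L hL hp (0 : Fin n → ℕ) i₁
  rw [hd rfl] at hle
  have h0 : len0 Γ (0 : Fin n → ℕ) = 0 := by
    have hz : IsZero (ClSub.quotMod (1 : X.IdealSheafData)) :=
      CurveCohLib.isZero_of_subsingleton_stalks fun x => by
        refine ParShLib.subsingleton_stalk_quotMod _ ?_
        rw [Scheme.IdealSheafData.one_eq_top, Scheme.IdealSheafData.support_top]
        exact fun h => h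
    haveI : Subsingleton (Coh.HH X (ClSub.quotMod (∏ j, comp Γ j ^ (0 : Fin n → ℕ) j)) 0) := by
      simp only [Pi.zero_apply, pow_zero, Finset.prod_const_one]
      exact OmegaPn.subsingleton_of_isZero R hz 0
    exact Module.length_eq_zero
  rw [h0, add_zero] at hle
  refine le_trans (key _ _ (fun j => ?_) (by simp) le_rfl) hle
  rcases eq_or_ne j i₁ with rfl | hj
  · simp [hm, h₁]
  · simp [hj]

end Groth.Agent.MdlSection
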