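import Groth.Agent.MdlSection.Mono
import Groth.Agent.S3320
import Groth.Agent.H23.RedSub

/-!
# Two exceptional components which meet
-/

noncomputable section

set_option autoImplicit false
set_option linter.style.haveILetI false
set_option linter.unusedSectionVars false
set_option backward.isDefEq.respectTransparency false
set_option backward.isDefEq.respectTransparency.types false
set_option maxHeartbeats 1000000

universe u

open CategoryTheory CategoryTheory.Limits AlgebraicGeometry TopologicalSpace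
open Groth.Agent Groth.Agent.MdlInter
open scoped Groth.Agent.H23.PicMul

namespace Groth.Agent.MdlSection

variable {R : Type u} [CommRing R] [IsDomain R] [IsDiscreteValuationRing R]
  {C X : Scheme.{u}} {f : C ⟶ Spec (CommRingCat.of (FractionRing R))} {p : X ⟶ Spec (CommRingCat.of R)}
  {n : ℕ} {Γ : Fin n → ArSurf.VertComp R (Over.mk p)}

theorem exists_line_iso (S : Setting p Γ) (L : Fin n → X.Modules)
    (hL : ∀ i, ClSub.IsInverseOf (L i) (ClSub.idealMod (comp Γ i))) [IsProper p] (l : Fin n)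
    (hh : Models.h1 R (Over.mk p) (Γ l) = 0) (hint : ArSurf.inter R (Over.mk p) (L l) (Γ l) = -1) :
    ∃ e : (Γ l).curve.left ≅ CohB1.ProjSpace 1 (IsLocalRing.ResidueField R),
      e.hom ≫ CohB1.ProjSpace.toSpec 1 (IsLocalRing.ResidueField R) = (Γ l).curve.hom := by
  haveI := S.noeth
  let G := Γ l
  haveI : IsClosedImmersion (iotaX G) := G.isClosedImmersion
  haveI : IsProper (G.curve.left ↘ Spec (CommRingCat.of (IsLocalRing.ResidueField R))) := isProper_curve G
  haveI := CurveCohLib.isNoetherian_of_proper (k := IsLocalRing.ResidueField R) (X := G.curve.left)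
  have hI' : PicF.IsInvertible (ClSub.idealMod (iotaX G).ker) := (S8914.result _).2 (S.isEffCartier l)
  have hneg : ArSurf.inter R (Over.mk p) (L l) G = -ArSurf.inter R (Over.mk p) (ClSub.idealMod (iotaX G).ker) G := by
    have h := inter_tensor G (S.isInvertible_L L hL l) hI'
    rw [inter_congr G (InvX.isInvertible_tensorMod (S.isInvertible_L L hL l) hI') CurveDeg.isInvertible_structureModule
      (by rw [H23.PicMul.cl_tensor, S.cl_L L hL l, H23.PicMul.one_def]), inter_structure] at h
    linarith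
  have hMi := PicClLib.isInvertible_pullback (iotaX G) hI'
  have hMq : Coh.IsQCoh ((Scheme.Modules.pullback (iotaX G)).obj (ClSub.idealMod (iotaX G).ker)) :=
    QCoh.isQCoh_pullback (iotaX G) (AmpleVan.isCoh_invertible hI').1
  have hdeg : Curv2.deg (IsLocalRing.ResidueField R) G.curve.left
      ((Scheme.Modules.pullback (iotaX G)).obj (ClSub.idealMod (iotaX G).ker)) 1 = 1 := by
    rw [← curveDeg_eq_deg (IsLocalRing.ResidueField R) G.dim_eq hMq]
    show ArSurf.inter R (Over.mk p) (ClSub.idealMod (iotaX G).ker) G = 1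
    linarith
  haveI : Subsingleton (Coh.HH G.curve.left (Coh.structureModule G.curve.left) 1) := by
    haveI := CurveCohLib.finite_HH (k := IsLocalRing.ResidueField R) (QCoh.isCoh_structureModule' (X := G.curve.left)) 1
    exact Module.finrank_zero_iff.1 hh
  exact CurveEmbed.exists_iso_line (IsLocalRing.ResidueField R) G.dim_eq this hMi hdeg

theorem meet_point (S : Setting p Γ) (L : Fin n → X.Modules)
    (hL : ∀ i, ClSub.IsInverseOf (L i) (ClSub.idealMod (comp Γ i))) [IsProper p] {i j : Fin n} (hij : i ≠ j)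
    (hc : ArSurf.inter R (Over.mk p) (L j) (Γ i) = 1) :
    ∃ x : X, Set.range (iotaX (Γ i)) ∩ Set.range (iotaX (Γ j)) = {x} ∧
      (iotaX (Γ i)).ker ⊔ (iotaX (Γ j)).ker =
          Scheme.IdealSheafData.vanishingIdeal ⟨closure {x}, isClosed_closure⟩ ∧
      Function.Surjective ((X.residue x).hom.comp (Models.stalkHom R (Over.mk p) x)) := by
  obtain ⟨hdeg, hfin⟩ := S.inter_eq_meetDeg L hL hij
  rw [hc] at hdeg
  haveI : IsClosedImmersion (iotaX (Γ i)) := (Γ i).isClosedImmersion
  haveI : IsClosedImmersion (iotaX (Γ j)) := (Γ j).isClosedImmersion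
  let Z := pullback (iotaX (Γ i)) (iotaX (Γ j))
  let a : Z ⟶ (Γ i).curve.left := pullback.fst (iotaX (Γ i)) (iotaX (Γ j))
  let q : Z ⟶ Spec (CommRingCat.of (IsLocalRing.ResidueField R)) := a ≫ (Γ i).curve.hom
  haveI : IsFinite q := hfin
  haveI : IsAffine Z := isAffine_of_isAffineHom q
  haveI : IsIso q := by
    letI : Z.Over (Spec (CommRingCat.of (IsLocalRing.ResidueField R))) := ⟨q⟩
    have h1 : Module.finrank (IsLocalRing.ResidueField R) (Coh.HH Z (Coh.structureModule Z) 0) = 1 := by
      rw [GeomField.finrank_HH_zero]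
      have : (meetDeg Γ i j : ℤ) = 1 := hdeg.symm
      exact_mod_cast this
    have hb := CurveBC.bijective_appTop (IsLocalRing.ResidueField R) Z h1
    haveI : IsClosedImmersion q := (HasAffineProperty.iff_of_isAffine (P := @IsClosedImmersion)).2 ⟨inferInstance, hb.2⟩
    exact IsClosedImmersion.isIso_of_injective_of_isAffine hb.1
  haveI : Subsingleton Z := q.homeomorph.toEquiv.subsingleton
  obtain ⟨z⟩ : Nonempty Z := q.homeomorph.toEquiv.nonempty
  haveI : IsReduced Z := isReduced_of_isOpenImmersion q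
  let jz : Z ⟶ X := a ≫ iotaX (Γ i)
  haveI : IsClosedImmersion a := MorphismProperty.pullback_fst _ _ inferInstance
  let x : X := jz z
  have hjz : Set.range jz = {x} := by
    rw [Set.eq_singleton_iff_unique_mem]
    exact ⟨⟨z, rfl⟩, by rintro _ ⟨z', rfl⟩; rw [Subsingleton.elim z' z]⟩
  have hcl : closure ({x} : Set X) = {x} := by
    rw [← hjz]; exact jz.isClosedEmbedding.isClosed_range.closure_eq
  have hinter : Set.range (iotaX (Γ i)) ∩ Set.range (iotaX (Γ j)) = {x} := by
    rw [← hjz]
    refine Set.Subset.antisymm ?_ ?_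
    · rintro y ⟨⟨yi, rfl⟩, yj, hyj⟩
      obtain ⟨w, hw, -⟩ := Scheme.Pullback.exists_preimage_pullback (f := iotaX (Γ i)) (g := iotaX (Γ j)) yi yj hyj.symm
      refine ⟨w, ?_⟩
      rw [Scheme.Hom.comp_apply]
      exact congrArg (iotaX (Γ i)) hw
    · rintro _ ⟨w, rfl⟩
      refine ⟨⟨a w, (Scheme.Hom.comp_apply _ _ _).symm⟩, pullback.snd (iotaX (Γ i)) (iotaX (Γ j)) w, ?_⟩
      rw [← Scheme.Hom.comp_apply, ← pullback.condition]
  refine ⟨x, hinter, le_antisymm ?_ ?_, ?_⟩
  · let V := (Scheme.IdealSheafData.vanishingIdeal ⟨closure {x}, isClosed_closure⟩)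
    haveI : IsReduced V.subscheme := H23.RedSub.isReduced_vanishingIdeal _
    have hr : Set.range V.subschemeι = {x} := by
      rw [Scheme.IdealSheafData.range_subschemeι, Scheme.IdealSheafData.coe_support_vanishingIdeal]
      exact hcl
    have key : ∀ G : ArSurf.VertComp R (Over.mk p), x ∈ Set.range (iotaX G) → (iotaX G).ker ≤ V := by
      intro G hG
      haveI : IsClosedImmersion (iotaX G) := G.isClosedImmersion
      obtain ⟨u, hu⟩ := H23.RedSub.exists_lift V.subschemeι (iotaX G) (by
        rw [hr]; exact Set.singleton_subset_iff.2 hG)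
      rw [← V.ker_subschemeι, ← hu]
      exact Scheme.Hom.le_ker_comp _ _
    have hx : x ∈ Set.range (iotaX (Γ i)) ∩ Set.range (iotaX (Γ j)) := hinter ▸ rfl
    exact sup_le (key _ hx.1) (key _ hx.2)
  · let V := (iotaX (Γ i)).ker ⊔ (iotaX (Γ j)).ker
    let ui := IsClosedImmersion.lift (iotaX (Γ i)) V.subschemeι (by rw [V.ker_subschemeι]; exact le_sup_left)
    let uj := IsClosedImmersion.lift (iotaX (Γ j)) V.subschemeι (by rw [V.ker_subschemeι]; exact le_sup_right)
    let w : V.subscheme ⟶ Z := pullback.lift ui uj (by rw [IsClosedImmersion.lift_fac, IsClosedImmersion.lift_fac])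
    have hw : w ≫ jz = V.subschemeι := by
      show pullback.lift ui uj _ ≫ pullback.fst _ _ ≫ iotaX (Γ i) = _
      rw [pullback.lift_fst_assoc, IsClosedImmersion.lift_fac]
    obtain ⟨u, hu⟩ := H23.RedSub.exists_lift jz
      (Scheme.IdealSheafData.vanishingIdeal ⟨closure {x}, isClosed_closure⟩).subschemeι (by
        rw [Scheme.IdealSheafData.range_subschemeι, Scheme.IdealSheafData.coe_support_vanishingIdeal, hjz]
        exact subset_closure)
    show _ ≤ V
    rw [← V.ker_subschemeι, ← hw, ← hu, ← Category.assoc]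
    exact (Scheme.IdealSheafData.ker_subschemeι _).ge.trans (Scheme.Hom.le_ker_comp _ _)
  · intro t
    obtain ⟨r, hr⟩ : ∃ r : R, Z.Γevaluation z (Coh.toGlobal q (IsLocalRing.residue R r)) = jz.residueFieldMap z t := by
      have hb : Function.Bijective (Z.Γevaluation z) := by
        letI := (IsLocalRing.ResidueField R)
        have hF : IsField Γ(Z, ⊤) := by
          refine MulEquiv.isField (Field.toIsField (IsLocalRing.ResidueField R)) ?_
          exact ((RingEquiv.ofBijective _ (show Function.Bijective (Coh.toGlobal q) from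
            (ConcreteCategory.bijective_of_isIso q.appTop).comp
              (ConcreteCategory.bijective_of_isIso (Scheme.ΓSpecIso (CommRingCat.of (IsLocalRing.ResidueField R))).inv))).symm).toMulEquiv
        letI := hF.toField
        refine ⟨(Z.Γevaluation z).hom.injective, fun y => ?_⟩
        obtain ⟨y', rfl⟩ := Z.residue_surjective z y
        obtain ⟨s, hs⟩ : ∃ s : Γ(Z, ⊤), Z.presheaf.germ ⊤ z trivial s = y' := by
          have hs := (isAffineOpen_top Z).isLocalization_stalk ⟨z, trivial⟩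
          letI := Z.presheaf.algebra_section_stalk (⟨z, trivial⟩ : (⊤ : Z.Opens))
          obtain ⟨⟨s, d⟩, hsd⟩ := IsLocalization.surj ((isAffineOpen_top Z).primeIdealOf ⟨z, trivial⟩).asIdeal.primeCompl y'
          have hd : (d : Γ(Z, ⊤)) ≠ 0 := fun h0 => d.2 (h0 ▸ zero_mem _)
          refine ⟨s * (d : Γ(Z, ⊤))⁻¹, ?_⟩
          rw [map_mul, show Z.presheaf.germ ⊤ z trivial s = _ from hsd.symm]
          show y' * algebraMap Γ(Z, ⊤) _ (d : Γ(Z, ⊤)) * algebraMap Γ(Z, ⊤) _ (d : Γ(Z, ⊤))⁻¹ = y'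
          rw [mul_assoc, ← map_mul, mul_inv_cancel₀ hd, map_one, mul_one]
        exact ⟨s, congrArg (Z.residue z) hs⟩
      obtain ⟨s, hs⟩ := hb.2 (jz.residueFieldMap z t)
      obtain ⟨c, rfl⟩ := ((ConcreteCategory.bijective_of_isIso q.appTop).comp
        (ConcreteCategory.bijective_of_isIso (Scheme.ΓSpecIso (CommRingCat.of (IsLocalRing.ResidueField R))).inv)).2 s
      obtain ⟨r, rfl⟩ := IsLocalRing.residue_surjective c
      exact ⟨r, hs⟩
    refine ⟨r, (jz.residueFieldMap z).hom.injective ?_⟩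
    rw [← hr]
    refine (Scheme.Γevaluation_naturality_apply jz z (Coh.toGlobal p r)).trans (congrArg (Z.Γevaluation z) ?_)
    have hw : iotaX (Γ i) ≫ p = (Γ i).curve.hom ≫ Spec.map (CommRingCat.ofHom (IsLocalRing.residue R)) := (Γ i).w
    rw [← MdlInter.toGlobal_comp_left, show jz ≫ p = q ≫ Spec.map (CommRingCat.ofHom (IsLocalRing.residue R)) by
      simp only [jz, q, Category.assoc, hw], MdlInter.toGlobal_comp]

theorem exc_meet (hC : Curve.IsSmoothProperCurve (FractionRing R) C f) (hH0 : IsIso f.appTop)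
    (hX : Models.IsRegularProperModel R X p C f) (hΓ : Models.IsComponentList R (Over.mk p) Γ)
    (i j : Fin n) (hij : i ≠ j) (hi : Models.IsExcCurve (Γ i).ι) (hj : Models.IsExcCurve (Γ j).ι)
    (hmeet : ¬ Disjoint (Set.range ((Γ i).ι.base : (Γ i).curve.left → X))
      (Set.range ((Γ j).ι.base : (Γ j).curve.left → X))) :
    n = 2 ∧ (∀ l, Models.mult R (Over.mk p) (Γ l) = 1) ∧
      (∀ l, ∃ e : (Γ l).curve.left ≅ CohB1.ProjSpace 1 (IsLocalRing.ResidueField R),
        e.hom ≫ CohB1.ProjSpace.toSpec 1 (IsLocalRing.ResidueField R) = (Γ l).curve.hom) ∧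
      (∃ x : X, Set.range ((Γ i).ι.base : (Γ i).curve.left → X) ∩ Set.range ((Γ j).ι.base : (Γ j).curve.left → X) = {x} ∧
        (Γ i).ι.ker ⊔ (Γ j).ι.ker =
          Scheme.IdealSheafData.vanishingIdeal ⟨closure {x}, isClosed_closure⟩ ∧
        Function.Surjective ((X.residue x).hom.comp (Models.stalkHom R (Over.mk p) x))) ∧
      Models.curveGenus (FractionRing R) C f = 0 := by
  classical
  haveI := hX.2.1
  have S := setting_of_model hX hΓ
  obtain ⟨L, hL⟩ := exists_L S
  obtain ⟨hi1, hi2⟩ := (exc_iff (Γ i) (L i) (S.isInvertible_L L hL i) (S.isEffCartier i) (S.cl_L L hL i)).1 hi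
  obtain ⟨hj1, hj2⟩ := (exc_iff (Γ j) (L j) (S.isInvertible_L L hL j) (S.isEffCartier j) (S.cl_L L hL j)).1 hj
  have hsymm := S.inter_comm L hL i j
  have hcpos : 0 < ArSurf.inter R (Over.mk p) (L j) (Γ i) :=
    lt_of_le_of_ne (S.inter_nonneg L hL hij) fun h => hmeet ((S.inter_eq_zero_iff L hL hij).1 h.symm)
  have hwi := Int.le_of_dvd hcpos (wdeg_dvd_inter (L j) (Γ i))
  have hwj := Int.le_of_dvd (hsymm ▸ hcpos) (wdeg_dvd_inter (L i) (Γ j))
  rw [← hsymm] at hwj
  let v : Fin n → ℤ := fun l => (if l = i then 1 else 0) + (if l = j then 1 else 0)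
  obtain ⟨hle, hiff⟩ := S3320.result R C X f p hC hH0 hX Γ hΓ L hL v
  have hq : ∑ q : Fin n × Fin n, v q.1 * v q.2 * ArSurf.inter R (Over.mk p) (L q.2) (Γ q.1) =
      ArSurf.inter R (Over.mk p) (L i) (Γ i) + ArSurf.inter R (Over.mk p) (L j) (Γ i) +
        (ArSurf.inter R (Over.mk p) (L i) (Γ j) + ArSurf.inter R (Over.mk p) (L j) (Γ j)) := by
    rw [Fintype.sum_prod_type]
    simp only [v, add_mul, mul_add, ite_mul, mul_ite, one_mul, mul_one, zero_mul, mul_zero, Finset.sum_add_distrib,
      Finset.sum_ite_eq', Finset.mem_univ, if_true, Finset.sum_ite_irrel, Finset.sum_const_zero]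
    ring
  rw [hq, ← hsymm, hi2, hj2] at hle hiff
  obtain ⟨c, hc⟩ := hiff.1 (le_antisymm hle (by omega))
  have hci : c * (Models.mult R (Over.mk p) (Γ i) : ℚ) = 1 := by rw [← hc i]; simp [v, hij]
  have hcj : c * (Models.mult R (Over.mk p) (Γ j) : ℚ) = 1 := by rw [← hc j]; simp [v, Ne.symm hij]
  have hc0 : c ≠ 0 := fun h => by rw [h, zero_mul] at hci; exact zero_ne_one hci
  have huniv : ∀ l, l = i ∨ l = j := fun l => by
    by_contra h
    push Not at h
    have h1 := hc l
    simp [v, h.1, h.2, hc0, (S.mult_pos l).ne'] at h1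
  have hmm : Models.mult R (Over.mk p) (Γ i) = Models.mult R (Over.mk p) (Γ j) := by
    exact_mod_cast mul_left_cancel₀ hc0 (hci.trans hcj.symm)
  have hu : (Finset.univ : Finset (Fin n)) = {i, j} := by
    ext l; simpa using huniv l
  have hn : n = 2 := by
    rw [← Finset.card_fin n, hu, Finset.card_pair hij]
  have hg := genus_formula hC hH0 hX hΓ L hL
  rw [hu, Finset.sum_pair hij, chiK_structure, chiK_structure, hi1, hj1, hi2, hj2, ← hmm] at hg
  push_cast at hg
  have hwi0 : 0 < (Models.wdeg R (Over.mk p) (Γ i) : ℤ) := by exact_mod_cast wdeg_pos (Γ i)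
  have hwj0 : 0 < (Models.wdeg R (Over.mk p) (Γ j) : ℤ) := by exact_mod_cast wdeg_pos (Γ j)
  have hm0 : 0 < (Models.mult R (Over.mk p) (Γ i) : ℤ) := by exact_mod_cast S.mult_pos i
  have hww : (Models.wdeg R (Over.mk p) (Γ i) : ℤ) = Models.wdeg R (Over.mk p) (Γ j) := by omega
  have hcw : ArSurf.inter R (Over.mk p) (L j) (Γ i) = Models.wdeg R (Over.mk p) (Γ i) := by omega
  rw [← hww] at hg
  have hmw : (Models.mult R (Over.mk p) (Γ i) : ℤ) * Models.wdeg R (Over.mk p) (Γ i) ≤ 1 := by nlinarith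
  have hm1 : Models.mult R (Over.mk p) (Γ i) = 1 := by
    have : (Models.mult R (Over.mk p) (Γ i) : ℤ) = 1 := by nlinarith
    exact_mod_cast this
  have hw1 : (Models.wdeg R (Over.mk p) (Γ i) : ℤ) = 1 := by nlinarith
  refine ⟨hn, fun l => ?_, fun l => ?_, meet_point S L hL hij (hcw.trans hw1), ?_⟩
  · rcases huniv l with rfl | rfl
    · exact hm1
    · rw [← hmm, hm1]
  · rcases huniv l with rfl | rfl
    · exact exists_line_iso S L hL _ hi1 (by rw [hi2, hw1])
    · exact exists_line_iso S L hL _ hj1 (by rw [hj2, ← hww, hw1])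
  · rw [hm1, hw1] at hg
    push_cast at hg
    omega

end Groth.Agent.MdlSection
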