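import Groth.Agent.MdlSection.Chain
import Groth.Agent.MdlRegPt.Point
import Groth.Agent.RegLoc6.Basic
import Groth.Agent.GeomField.GlobalFunctions
import Groth.Agent.H23.PicInv
import Mathlib.AlgebraicGeometry.ValuativeCriterion

/-!
# Models with a rational point
-/

noncomputable section

set_option autoImplicit false
set_option linter.style.haveILetI false
set_option linter.unusedSectionVars false
set_option backward.isDefEq.respectTransparency false
set_option backward.isDefEq.respectTransparency.types false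
set_option maxHeartbeats 1000000

universe u

open CategoryTheory CategoryTheory.Limits AlgebraicGeometry TopologicalSpace IsLocalRing
open Groth.Agent Groth.Agent.MdlInter
open scoped Groth.Agent.H23.PicMul
attribute [local instance] Curv2.resAlgebra

namespace Groth.Agent.MdlSection

variable {R : Type u} [CommRing R] [IsDomain R] [IsDiscreteValuationRing R]
  {C X : Scheme.{u}} {f : C ⟶ Spec (CommRingCat.of (FractionRing R))} {p : X ⟶ Spec (CommRingCat.of R)}

theorem exists_section [IsProper p] {g : C ⟶ X}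
    (hg : IsPullback g f p (Spec.map (CommRingCat.ofHom (algebraMap R (FractionRing R)))))
    (s : Spec (CommRingCat.of (FractionRing R)) ⟶ C) (hs : s ≫ f = 𝟙 _) :
    ∃ σ : Spec (CommRingCat.of R) ⟶ X, σ ≫ p = 𝟙 _ ∧
      Spec.map (CommRingCat.ofHom (algebraMap R (FractionRing R))) ≫ σ = s ≫ g := by
  have hex : ValuativeCriterion.Existence p := by
    have h := (inferInstance : UniversallyClosed p)
    rw [UniversallyClosed.eq_valuativeCriterion] at h
    exact h.1
  obtain ⟨l, hl₁, hl₂⟩ := (hex ⟨R, FractionRing R, s ≫ g, 𝟙 _,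
    ⟨by rw [Category.assoc, hg.w, reassoc_of% hs, Category.comp_id]⟩⟩).exists_lift.some
  exact ⟨l, hl₂, hl₁⟩

section Retraction

/-- The structure map to a local ring. -/
abbrev sh (p : X ⟶ Spec (CommRingCat.of R)) (x : X) : R →+* X.presheaf.stalk x :=
  Models.stalkHom R (Over.mk p) x

variable (σ : Spec (CommRingCat.of R) ⟶ X) (hσ : σ ≫ p = 𝟙 _)

/-- The point of the closed fibre on a section. -/
abbrev pt : X := σ (IsLocalRing.closedPoint R)

/-- The retraction of the local ring to `R`. -/
abbrev retr : X.presheaf.stalk (pt σ) →+* R := (Scheme.stalkClosedPointTo σ).hom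

include hσ in
theorem retr_stalkHom (a : R) : retr σ (sh p (pt σ) a) = a := by
  have h1 := ConcreteCategory.congr_hom (Scheme.germ_stalkClosedPointTo σ ⊤ (show pt σ ∈ (⊤ : X.Opens) from trivial))
    (Coh.toGlobal p a)
  simp only [ConcreteCategory.comp_apply] at h1
  refine Eq.trans h1 ?_
  have h2 : σ.app ⊤ (Coh.toGlobal p a) = Coh.toGlobal (𝟙 (Spec (CommRingCat.of R))) a := by
    rw [← hσ, MdlInter.toGlobal_comp_left]
    rfl
  rw [h2]
  simp only [Iso.trans_hom, Functor.mapIso_hom, ConcreteCategory.comp_apply]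
  rw [show (eqToIso (Scheme.preimage_eq_top_of_closedPoint_mem σ (show pt σ ∈ (⊤ : X.Opens) from trivial)).symm).op.hom =
    𝟙 _ from Subsingleton.elim _ _, CategoryTheory.Functor.map_id]
  show (Scheme.ΓSpecIso (CommRingCat.of R)).hom ((Scheme.ΓSpecIso (CommRingCat.of R)).inv a) = a
  exact Iso.inv_hom_id_apply _ _

include hσ in
theorem exists_sub_mem (t : X.presheaf.stalk (pt σ)) :
    t - sh p (pt σ) (retr σ t) ∈ maximalIdeal (X.presheaf.stalk (pt σ)) := by
  intro hu
  have h := hu.map (retr σ)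
  rw [map_sub, retr_stalkHom σ hσ, sub_self] at h
  exact not_isUnit_zero h

include hσ in
theorem surjective_residue :
    Function.Surjective ((X.residue (pt σ)).hom.comp (sh p (pt σ))) := by
  intro z
  obtain ⟨t, rfl⟩ := IsLocalRing.residue_surjective (R := X.presheaf.stalk (pt σ)) z
  refine ⟨retr σ t, Eq.symm ?_⟩
  exact Ideal.Quotient.eq.2 (exists_sub_mem σ hσ t)

include hσ in
theorem isRegular_fibre (hreg : IsRegularLocalRing (X.presheaf.stalk (pt σ))) :
    IsRegularLocalRing (X.presheaf.stalk (pt σ) ⧸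
      Ideal.map (sh p (pt σ)) (maximalIdeal R)) := by
  obtain ⟨ϖ, hϖ⟩ := IsDiscreteValuationRing.exists_irreducible R
  rw [hϖ.maximalIdeal_eq, Ideal.map_span, Set.image_singleton]
  haveI : IsLocalHom (retr σ) := inferInstanceAs (IsLocalHom (Scheme.stalkClosedPointTo σ).hom)
  have hx : sh p (pt σ) ϖ ∈ maximalIdeal (X.presheaf.stalk (pt σ)) := fun hu => by
    have h := hu.map (retr σ)
    rw [retr_stalkHom σ hσ] at h
    exact hϖ.not_isUnit h
  refine (RegLoc6.isRegularLocalRing_quot_and hx fun h2 => ?_).1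
  have h3 := Ideal.mem_map_of_mem (retr σ) h2
  rw [retr_stalkHom σ hσ, Ideal.map_pow] at h3
  have h4 : ϖ ∈ maximalIdeal R ^ 2 :=
    Ideal.pow_right_mono (((IsLocalRing.local_hom_TFAE (retr σ)).out 0 2).1 ‹_›) 2 h3
  rw [hϖ.maximalIdeal_eq, Ideal.span_singleton_pow, Ideal.mem_span_singleton] at h4
  obtain ⟨c, hc⟩ := h4
  refine hϖ.not_isUnit (IsUnit.of_mul_eq_one c ?_)
  apply mul_left_cancel₀ hϖ.ne_zero
  rw [mul_one, ← mul_assoc, ← sq, ← hc]

include hσ in
theorem isClosed_pt [IsSeparated p] : IsClosed ({pt σ} : Set X) := by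
  haveI : IsClosedImmersion (σ ≫ p) := by rw [hσ]; infer_instance
  haveI : IsClosedImmersion σ := IsClosedImmersion.of_comp σ p
  rw [← Set.image_singleton (f := fun z => σ z) (a := IsLocalRing.closedPoint R)]
  exact σ.isClosedEmbedding.isClosedMap _ (IsLocalRing.isClosed_singleton_closedPoint R)

include hσ in
theorem closure_inter [IsSeparated p] (η : Spec (CommRingCat.of R)) (hη : η = (⟨⊥, Ideal.isPrime_bot⟩ : PrimeSpectrum R)) :
    closure ({σ η} : Set X) ∩ Models.specialFibreSet R (Over.mk p) = {pt σ} := by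
  haveI : IsClosedImmersion (σ ≫ p) := by rw [hσ]; infer_instance
  haveI : IsClosedImmersion σ := IsClosedImmersion.of_comp σ p
  have hpσ : ∀ z, p (σ z) = z := fun z => by rw [← Scheme.Hom.comp_apply, hσ]; rfl
  ext y
  constructor
  · rintro ⟨hy, hyF⟩
    obtain ⟨z, rfl⟩ : y ∈ Set.range σ :=
      closure_minimal (Set.singleton_subset_iff.2 (Set.mem_range_self η)) σ.isClosedEmbedding.isClosed_range hy
    have hz : p (σ z) = IsLocalRing.closedPoint R := hyF
    rw [hpσ] at hz
    rw [hz]
    rfl
  · intro hy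
    rw [Set.mem_singleton_iff] at hy
    rw [hy]
    refine Set.mem_inter (specializes_iff_mem_closure.1 ?_) (hpσ _)
    exact (IsLocalRing.specializes_closedPoint η).map σ.continuous

include hσ in
theorem wdeg_eq_one [IsProper p] (G : ArSurf.VertComp R (Over.mk p)) (hG : pt σ ∈ Set.range (iotaX G)) :
    Models.wdeg R (Over.mk p) G = 1 := by
  haveI : IsClosedImmersion (iotaX G) := G.isClosedImmersion
  haveI : IsProper (G.curve.left ↘ Spec (CommRingCat.of (IsLocalRing.ResidueField R))) := isProper_curve G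
  letI : Algebra (IsLocalRing.ResidueField R) Γ(G.curve.left, ⊤) :=
    GeomField.globalAlgebra (IsLocalRing.ResidueField R) G.curve.left
  show Module.finrank _ (Coh.HH G.curve.left (Coh.structureModule G.curve.left) 0) = 1
  rw [GeomField.finrank_HH_zero]
  obtain ⟨y, hy⟩ := hG
  let φ : Γ(G.curve.left, ⊤) →+* G.curve.left.residueField y := (G.curve.left.Γevaluation y).hom
  have hinj : Function.Injective φ := by
    letI := (isField_of_universallyClosed (IsLocalRing.ResidueField R)
      (G.curve.left ↘ Spec (CommRingCat.of (IsLocalRing.ResidueField R)))).toField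
    exact φ.injective
  have hsurj : ∀ z : G.curve.left.residueField y, ∃ a : R,
      φ (algebraMap (IsLocalRing.ResidueField R) Γ(G.curve.left, ⊤) (IsLocalRing.residue R a)) = z := by
    intro z
    obtain ⟨z', hz'⟩ := (CycLib.residueFieldMap_bijective (iotaX G) y).2 z
    have hs : ∀ w : X.residueField (iotaX G y), ∃ a : R, X.Γevaluation (iotaX G y) (Coh.toGlobal p a) = w := by
      rw [hy]; exact surjective_residue σ hσ
    obtain ⟨a, rfl⟩ := hs z'
    refine ⟨a, ?_⟩
    rw [← hz', Scheme.Γevaluation_naturality_apply]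
    refine congrArg φ ?_
    have hw : iotaX G ≫ p = G.curve.hom ≫ Spec.map (CommRingCat.ofHom (IsLocalRing.residue R)) := G.w
    rw [← MdlInter.toGlobal_comp_left, hw, MdlInter.toGlobal_comp]
    rfl
  have hb : Function.Bijective (algebraMap (IsLocalRing.ResidueField R) Γ(G.curve.left, ⊤)) := by
    refine ⟨RingHom.injective _, fun t => ?_⟩
    obtain ⟨a, ha⟩ := hsurj (φ t)
    exact ⟨_, hinj ha⟩
  exact (LinearEquiv.ofBijective (Algebra.linearMap _ _) hb).finrank_eq.symm.trans (Module.finrank_self _)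

end Retraction

/-- Through the point of a section passes a component of multiplicity one. -/
theorem exists_comp (hC : Curve.IsSmoothProperCurve (FractionRing R) C f)
    (hX : Models.IsRegularProperModel R X p C f)
    {n : ℕ} {Γ : Fin n → ArSurf.VertComp R (Over.mk p)} (hΓ : Models.IsComponentList R (Over.mk p) Γ)
    (s : Spec (CommRingCat.of (FractionRing R)) ⟶ C) (hs : s ≫ f = 𝟙 _)
    {g : C ⟶ X} (hg : IsPullback g f p (Spec.map (CommRingCat.ofHom (algebraMap R (FractionRing R)))))
    (σ : Spec (CommRingCat.of R) ⟶ X) (hσ : σ ≫ p = 𝟙 _)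
    (hσs : Spec.map (CommRingCat.ofHom (algebraMap R (FractionRing R))) ≫ σ = s ≫ g) :
    ∃ i, pt σ ∈ Set.range (iotaX (Γ i)) ∧ Models.mult R (Over.mk p) (Γ i) = 1 := by
  classical
  haveI := hX.2.1
  haveI : Flat p := hX.1.1
  have S := setting_of_model hX hΓ
  haveI := S.noeth
  letI : C.Over (Spec (CommRingCat.of (FractionRing R))) := ⟨f⟩
  haveI : IsProper (C ↘ Spec (CommRingCat.of (FractionRing R))) := hC.1
  haveI : IsSeparated f := hC.1.toIsSeparated
  haveI : IsClosedImmersion (s ≫ f) := by rw [hs]; infer_instance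
  haveI : IsClosedImmersion s := IsClosedImmersion.of_comp s f
  let t : Spec (CommRingCat.of (FractionRing R)) := IsLocalRing.closedPoint (FractionRing R)
  have hP : IsClosed ({s t} : Set C) := by
    rw [← Set.image_singleton]
    exact s.isClosedEmbedding.isClosedMap _ (IsLocalRing.isClosed_singleton_closedPoint _)
  have hgs : g (s t) = σ (⟨⊥, Ideal.isPrime_bot⟩ : PrimeSpectrum R) := by
    rw [← Scheme.Hom.comp_apply, ← hσs, Scheme.Hom.comp_apply]
    refine congrArg σ ?_
    have h := MdlRegPt.range_generic (R := R)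
    exact (Set.ext_iff.1 h _).1 ⟨t, rfl⟩
  let I := Finset.univ.filter fun i : Fin n => pt σ ∈ Set.range (iotaX (Γ i))
  let e := I.equivFin
  let Γ' : Fin I.card → ArSurf.VertComp R (Over.mk p) := fun k => Γ (e.symm k).1
  have hinj : Function.Injective fun k => Set.range (MdlRegPt.iotaV (Γ' k)) := fun a b h => by
    exact e.symm.injective (Subtype.ext (hΓ.1 h))
  obtain ⟨c, hc, hsum⟩ := MdlRegPt.main (R := R) (C := C) (p := p) (iX := g) S.reg hC.2.2.2.le hg (x := pt σ) Γ' hinj (fun Z hZ => by
      rw [← hΓ.2] at hZ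
      obtain ⟨i, rfl⟩ := hZ
      constructor
      · intro hi
        refine ⟨e ⟨i, Finset.mem_filter.2 ⟨Finset.mem_univ _, hi⟩⟩, ?_⟩
        show Set.range (iotaX (Γ (e.symm (e ⟨i, _⟩)).1)) = Set.range (iotaX (Γ i))
        rw [Equiv.symm_apply_apply]
      · rintro ⟨k, hk⟩
        exact hk ▸ (Finset.mem_filter.1 (e.symm k).2).2) (s t) hP (by rw [hgs]; exact closure_inter σ hσ _ rfl)
  have hdeg : Module.finrank (FractionRing R) (C.residueField (s t)) = 1 := by
    rw [MdlRegPt.resAlgebra_finrank]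
    have h := CycLib.residueDegree_comp s f t
    rw [H23.FiniteFibreSum.residueDegree_congr' hs, CycLib.residueDegree_preimmersion] at h
    first
      | exact Nat.eq_one_of_mul_eq_one_left h.symm
      | exact Nat.eq_one_of_mul_eq_one_right h.symm
  rw [hdeg] at hsum
  have hne : 0 < I.card := by
    by_contra h
    haveI : IsEmpty (Fin I.card) := by rw [show I.card = 0 by omega]; infer_instance
    rw [Finset.univ_eq_empty, Finset.sum_empty] at hsum
    exact one_ne_zero hsum
  refine ⟨(e.symm ⟨0, hne⟩).1, (Finset.mem_filter.1 (e.symm ⟨0, hne⟩).2).2, ?_⟩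
  have hle : c ⟨0, hne⟩ * Models.mult R (Over.mk p) (Γ' ⟨0, hne⟩) ≤ 1 := by
    rw [hsum]
    exact Finset.single_le_sum (f := fun k => c k * Models.mult R (Over.mk p) (Γ' k)) (fun _ _ => Nat.zero_le _)
      (Finset.mem_univ _)
  have h1 := Nat.mul_le_mul_right (Models.mult R (Over.mk p) (Γ' ⟨0, hne⟩)) (hc ⟨0, hne⟩)
  have h2 := S.mult_pos (e.symm ⟨0, hne⟩).1
  show Models.mult R (Over.mk p) (Γ' ⟨0, hne⟩) = 1
  change 0 < Models.mult R (Over.mk p) (Γ' ⟨0, hne⟩) at h2
  omega

theorem lengthH_eq (hC : Curve.IsSmoothProperCurve (FractionRing R) C f) (hH0 : IsIso f.appTop)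
    (hX : Models.IsRegularProperModel R X p C f)
    {n : ℕ} {Γ : Fin n → ArSurf.VertComp R (Over.mk p)} (hΓ : Models.IsComponentList R (Over.mk p) Γ)
    (i₁ : Fin n) (h₁ : Models.mult R (Over.mk p) (Γ i₁) = 1) (hw : Models.wdeg R (Over.mk p) (Γ i₁) = 1) :
    Models.lengthH R (Over.mk p) (ClSub.quotMod (Models.specialFibreIdeal R (Over.mk p))) 0 = 1 ∧
      Models.lengthH R (Over.mk p) (ClSub.quotMod (Models.specialFibreIdeal R (Over.mk p))) 1 =
        Models.curveGenus (FractionRing R) C f := by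
  classical
  haveI := hX.2.1
  have S := setting_of_model hX hΓ
  haveI := S.noeth
  letI : X.Over (Spec (CommRingCat.of R)) := ⟨p⟩
  have hp : (X ↘ Spec (CommRingCat.of R)) = p := rfl
  have hex : ∀ i, ∃ D : X.Modules, ClSub.IsInverseOf D (ClSub.idealMod (comp Γ i)) := fun i => by
    obtain ⟨D, hD, ⟨e⟩⟩ := H23.PicInv.exists_inverse ((S8914.result (comp Γ i)).2 (S.isEffCartier i))
    refine ⟨D, H23.PicMul.cl_eq_iff.1 ?_⟩
    rw [H23.PicMul.cl_tensor, mul_comm, ← H23.PicMul.cl_tensor]
    exact H23.PicMul.cl_eq_iff.2 ⟨e⟩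
  choose L hL using hex
  have hmeet := fun I => exists_meeting hH0 hX hΓ L hL I
  have hle := len0_mult_le S L hL hp hmeet i₁ h₁
  rw [hw, len0, show (∏ i, comp Γ i ^ Models.mult R (Over.mk p) (Γ i)) = sfI p from S.specialFibreIdeal_eq.symm] at hle
  have h0 : Module.length R (Coh.HH X (ClSub.quotMod (sfI p)) 0) = 1 := by
    refine le_antisymm (by exact_mod_cast hle) ?_
    rw [length_HH_specialFibre hp 0]
    have hpos : 0 < PerfAux.betti p (Coh.structureModule X) (IsLocalRing.closedPoint R) 0 := by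
      let y : Spec (CommRingCat.of R) := IsLocalRing.closedPoint R
      letI : (p.fiber y).Over (Spec (CommRingCat.of ((Spec (CommRingCat.of R)).residueField y))) :=
        ⟨p.fiberToSpecResidueField y⟩
      haveI : IsProper (p.fiber y ↘ Spec (CommRingCat.of ((Spec (CommRingCat.of R)).residueField y))) :=
        MorphismProperty.pullback_snd (P := @IsProper) p _ inferInstance
      haveI := CurveCohLib.isNoetherian_of_proper (k := (Spec (CommRingCat.of R)).residueField y) (X := p.fiber y)
      haveI := CurveCohLib.finite_HH (k := (Spec (CommRingCat.of R)).residueField y)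
        (QCoh.isCoh_structureModule' (X := p.fiber y)) 0
      show 0 < Module.finrank ((Spec (CommRingCat.of R)).residueField y)
        (Coh.HH (p.fiber y) ((Scheme.Modules.pullback (p.fiberι y)).obj (Coh.structureModule X)) 0)
      rw [(CurveCohLib.hhEquiv (k := (Spec (CommRingCat.of R)).residueField y) (CurveBC.unitIso (p.fiberι y)) 0).finrank_eq]
      obtain ⟨z, hz⟩ : (Models.specialFibreSet R (Over.mk p)).Nonempty := (isPreconnected_specialFibreSet hH0 hX).2
      haveI : Nonempty (p.fiber y) := by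
        have : z ∈ Set.range (p.fiberι y) := by rw [Scheme.Hom.range_fiberι]; exact hz
        exact ⟨this.choose⟩
      haveI : Nonempty ↥(⊤ : (p.fiber y).Opens) := ⟨⟨Classical.arbitrary _, trivial⟩⟩
      let e0 : Coh.HH (p.fiber y) (Coh.structureModule (p.fiber y)) 0 ≃+ Γ(p.fiber y, ⊤) :=
        Sheaf.H.equiv₀ (Coh.toAb (Coh.structureModule (p.fiber y))) isTerminalTop
      haveI : Nontrivial (Coh.HH (p.fiber y) (Coh.structureModule (p.fiber y)) 0) := e0.toEquiv.nontrivial
      exact Module.finrank_pos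
    exact_mod_cast hpos
  refine ⟨?_, ?_⟩
  · show (Module.length R (Coh.HH X (ClSub.quotMod (sfI p)) 0)).toNat = 1
    rw [h0]; rfl
  · have h := eulerChar_closedPoint S L hL hp
    rw [eulerChar_closed_eq_generic hX, eulerChar_generic hC hH0 hX, chiLen, h0] at h
    show (Module.length R (Coh.HH X (ClSub.quotMod (sfI p)) 1)).toNat = _
    simp only [ENat.toNat_one, Nat.cast_one] at h
    omega

theorem main (hC : Curve.IsSmoothProperCurve (FractionRing R) C f) (hH0 : IsIso f.appTop)
    (hX : Models.IsRegularProperModel R X p C f)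
    {n : ℕ} (Γ : Fin n → ArSurf.VertComp R (Over.mk p)) (hΓ : Models.IsComponentList R (Over.mk p) Γ)
    (s : Spec (CommRingCat.of (FractionRing R)) ⟶ C) (hs : s ≫ f = 𝟙 _) :
    (∃ (i : Fin n) (x : X), x ∈ Set.range ((Γ i).ι.base : (Γ i).curve.left → X) ∧ IsClosed ({x} : Set X) ∧
        Function.Surjective ((X.residue x).hom.comp (Models.stalkHom R (Over.mk p) x)) ∧
        IsRegularLocalRing (X.presheaf.stalk x ⧸
          Ideal.map (Models.stalkHom R (Over.mk p) x) (IsLocalRing.maximalIdeal R)) ∧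
        Models.wdeg R (Over.mk p) (Γ i) = 1 ∧ Models.mult R (Over.mk p) (Γ i) = 1) ∧
      Models.lengthH R (Over.mk p) (ClSub.quotMod (Models.specialFibreIdeal R (Over.mk p))) 0 = 1 ∧
      Models.lengthH R (Over.mk p) (ClSub.quotMod (Models.specialFibreIdeal R (Over.mk p))) 1 =
        Models.curveGenus (FractionRing R) C f := by
  haveI := hX.2.1
  obtain ⟨g, hg⟩ := hX.1.2.2.2
  obtain ⟨σ, hσ, hσs⟩ := exists_section hg s hs
  obtain ⟨i, hi, hm⟩ := exists_comp hC hX hΓ s hs hg σ hσ hσs
  have hw := wdeg_eq_one σ hσ (Γ i) hi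
  exact ⟨⟨i, pt σ, hi, isClosed_pt σ hσ, surjective_residue σ hσ, isRegular_fibre σ hσ (hX.2.2 _), hw, hm⟩,
    lengthH_eq hC hH0 hX hΓ i hm hw⟩

end Groth.Agent.MdlSection
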