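import Groth.Agent.MdlSection.Field
import Groth.Agent.MdlInter.NumType
import Groth.Agent.MdlInter.Exc
import Groth.Agent.CurveBC.Geometry
import Groth.Agent.FibDim.Semicont
import Groth.Agent.MdlRegPt.Point
import Mathlib.FieldTheory.IsAlgClosed.Basic

/-!
# The first cohomology of the reduced closed fibre of a minimal model
-/

noncomputable section

set_option autoImplicit false
set_option linter.style.haveILetI false
set_option linter.unusedSectionVars false
set_option backward.isDefEq.respectTransparency false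
set_option backward.isDefEq.respectTransparency.types false
set_option maxHeartbeats 1000000

universe u

open CategoryTheory CategoryTheory.Limits AlgebraicGeometry TopologicalSpace
open Groth.Agent Groth.Agent.MdlInter
open Groth.Agent.PnCoh.Finite (mapLin)
open scoped Groth.Agent.H23.PicMul

namespace Groth.Agent.MdlSection

variable {R : Type u} [CommRing R] [IsDomain R] [IsDiscreteValuationRing R]
  {C X : Scheme.{u}} {f : C ⟶ Spec (CommRingCat.of (FractionRing R))} {p : X ⟶ Spec (CommRingCat.of R)}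
  {n : ℕ} {Γ : Fin n → ArSurf.VertComp R (Over.mk p)}

/-- The length of the degree one cohomology of the divisor `∑ a_j Γ_j`. -/
def len1 [X.Over (Spec (CommRingCat.of R))] (Γ : Fin n → ArSurf.VertComp R (Over.mk p)) (a : Fin n → ℕ) : ℕ :=
  (Module.length R (Coh.HH X (ClSub.quotMod (∏ j, comp Γ j ^ a j)) 1)).toNat

theorem one_le_len0 [X.Over (Spec (CommRingCat.of R))] {a : Fin n → ℕ} (ha : FieldDiv Γ a) : 1 ≤ len0 Γ a := by
  haveI : Nontrivial Γ((∏ i, comp Γ i ^ a i).subscheme, ⊤) := ha.nontrivial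
  haveI : Nontrivial (Coh.HH X (ClSub.quotMod (∏ i, comp Γ i ^ a i)) 0) := (secEquiv _).toEquiv.nontrivial
  exact Order.one_le_iff_pos.2 (Module.length_pos (R := R))

theorem chiK_structure (G : ArSurf.VertComp R (Over.mk p)) :
    chiK G (Coh.structureModule G.curve.left) =
      (Models.wdeg R (Over.mk p) G : ℤ) - (Models.h1 R (Over.mk p) G : ℤ) := by
  simp [chiK, FGA.eulerCharLE, Finset.sum_range_succ, Models.wdeg, Models.h1]
  ring

/-- One step of the chain. -/
theorem len1_step (S : Setting p Γ) (L : Fin n → X.Modules)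
    (hL : ∀ i, ClSub.IsInverseOf (L i) (ClSub.idealMod (comp Γ i)))
    [X.Over (Spec (CommRingCat.of R))] [IsProper p] (hp : (X ↘ Spec (CommRingCat.of R)) = p)
    (a : Fin n → ℕ) (i : Fin n) (hpos : 0 < ∑ j, (a j : ℤ) * ArSurf.inter R (Over.mk p) (L j) (Γ i))
    (h0 : len0 Γ a = 1) (h1 : 1 ≤ len0 Γ (fun j => a j + if j = i then 1 else 0)) :
    len0 Γ (fun j => a j + if j = i then 1 else 0) = 1 ∧
      len1 Γ a ≤ len1 Γ (fun j => a j + if j = i then 1 else 0) ∧
      (len1 Γ (fun j => a j + if j = i then 1 else 0) ≤ len1 Γ a → Models.h1 R (Over.mk p) (Γ i) = 0 ∧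
        ∑ j, (a j : ℤ) * ArSurf.inter R (Over.mk p) (L j) (Γ i) = Models.wdeg R (Over.mk p) (Γ i)) := by
  obtain ⟨d, hd, -, hle⟩ := len0_add_le S L hL hp a i
  rw [hd hpos, zero_add, h0] at hle
  have h0' := le_antisymm hle h1
  have hχ := ((S.good_quotMod L hL hp a).2 i).2
  rw [chiK_structure] at hχ
  have hw : (Models.wdeg R (Over.mk p) (Γ i) : ℤ) ∣ ∑ j, (a j : ℤ) * ArSurf.inter R (Over.mk p) (L j) (Γ i) :=
    Finset.dvd_sum fun j _ => Dvd.dvd.mul_left (wdeg_dvd_inter (L j) (Γ i)) _
  have hwle := Int.le_of_dvd hpos hw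
  have hc : ∀ b : Fin n → ℕ, len0 Γ b = 1 →
      chiLen R (ClSub.quotMod (∏ j, comp Γ j ^ b j)) = 1 - (len1 Γ b : ℤ) := fun b hb => by
    unfold chiLen
    rw [show Module.length R (Coh.HH X (ClSub.quotMod (∏ j, comp Γ j ^ b j)) 0) = 1 from hb]
    rw [ENat.toNat_one, Nat.cast_one]
    rfl
  rw [hc a h0, hc _ h0'] at hχ
  exact ⟨h0', by omega, fun h => by omega⟩

theorem chain_h1 (hH0 : IsIso f.appTop) (hX : Models.IsRegularProperModel R X p C f)
    (hmin : ∀ G : ArSurf.VertComp R (Over.mk p), ¬ Models.IsExcCurve G.ι)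
    (hΓ : Models.IsComponentList R (Over.mk p) Γ)
    (hgcd : Models.multGcd R (Over.mk p) Γ = 1)
    (hbase : Models.lengthH R (Over.mk p) (ClSub.quotMod (Models.redFibreIdeal R (Over.mk p))) 0 = 1) :
    Models.lengthH R (Over.mk p) (ClSub.quotMod (Models.specialFibreIdeal R (Over.mk p))) 0 = 1 ∧
    Models.lengthH R (Over.mk p) (ClSub.quotMod (Models.redFibreIdeal R (Over.mk p))) 1 ≤
        Models.lengthH R (Over.mk p) (ClSub.quotMod (Models.specialFibreIdeal R (Over.mk p))) 1 ∧
      (Models.specialFibreIdeal R (Over.mk p) ≠ Models.redFibreIdeal R (Over.mk p) →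
        Models.lengthH R (Over.mk p) (ClSub.quotMod (Models.redFibreIdeal R (Over.mk p))) 1 <
          Models.lengthH R (Over.mk p) (ClSub.quotMod (Models.specialFibreIdeal R (Over.mk p))) 1) := by
  classical
  haveI := hX.2.1
  have S := setting_of_model hX hΓ
  obtain ⟨L, hL⟩ := exists_L S
  letI : X.Over (Spec (CommRingCat.of R)) := ⟨p⟩
  have hp : (X ↘ Spec (CommRingCat.of R)) = p := rfl
  obtain ⟨s, a, ha0, hal, hst, hfd⟩ := exists_chain hH0 hX S L hL
  have hprim : prim Γ = fun i => Models.mult R (Over.mk p) (Γ i) := funext fun i => by simp [prim, hgcd]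
  have hsf : Models.specialFibreIdeal R (Over.mk p) = ∏ i, comp Γ i ^ prim Γ i := by
    rw [hprim]; exact S.specialFibreIdeal_eq
  have hstep : ∀ j : Fin s, len0 Γ (a j.castSucc) = 1 → len0 Γ (a j.succ) = 1 ∧
      len1 Γ (a j.castSucc) ≤ len1 Γ (a j.succ) ∧
      (len1 Γ (a j.succ) ≤ len1 Γ (a j.castSucc) → ∃ i, a j.succ = a j.castSucc + Pi.single i 1 ∧
        Models.h1 R (Over.mk p) (Γ i) = 0 ∧
        ∑ k, (a j.castSucc k : ℤ) * ArSurf.inter R (Over.mk p) (L k) (Γ i) = Models.wdeg R (Over.mk p) (Γ i)) := by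
    intro j hj
    obtain ⟨i, hi, hpos⟩ := hst j
    have hb' : a j.castSucc + Pi.single i 1 = fun k => a j.castSucc k + if k = i then 1 else 0 :=
      funext fun k => by simp [Pi.single_apply]
    have h := len1_step S L hL hp (a j.castSucc) i hpos hj (one_le_len0 (by rw [← hb', ← hi]; exact hfd _))
    rw [← hb', ← hi] at h
    exact ⟨h.1, h.2.1, fun hh => ⟨i, hi, h.2.2 hh⟩⟩
  have hred0 : len0 Γ (a 0) = 1 := by
    have h := hbase
    rw [redFibreIdeal_eq S] at h
    rw [ha0]
    have h' : (len0 Γ (fun _ => 1)).toNat = 1 := h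
    exact (ENat.toNat_eq_iff one_ne_zero).1 h'
  have key : ∀ j, len0 Γ (a j) = 1 ∧ len1 Γ (a 0) ≤ len1 Γ (a j) := by
    intro j
    induction j using Fin.induction with
    | zero => exact ⟨hred0, le_rfl⟩
    | succ j ih => exact ⟨(hstep j ih.1).1, ih.2.trans (hstep j ih.1).2.1⟩
  rw [hsf, redFibreIdeal_eq S]
  show (len0 Γ (prim Γ)).toNat = 1 ∧ len1 Γ (fun _ => 1) ≤ len1 Γ (prim Γ) ∧ (_ → len1 Γ (fun _ => 1) < len1 Γ (prim Γ))
  rw [← hal]
  refine ⟨by rw [(key _).1]; rfl, by rw [← ha0]; exact (key _).2, fun hne => ?_⟩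
  rw [← ha0]
  cases s with
  | zero =>
    refine absurd ?_ hne
    rw [show Fin.last 0 = (0 : Fin 1) from rfl, ha0]
  | succ t =>
    by_contra hlt
    have h1 := (key (Fin.last t).castSucc).2
    have he : a (Fin.last t).succ = a (Fin.last (t + 1)) := congrArg a (Fin.succ_last t)
    obtain ⟨i, hi, hh1, hS⟩ := (hstep (Fin.last t) (key _).1).2.2 (by
      rw [he]; omega)
    refine hmin (Γ i) ((exc_iff (Γ i) (L i) (S.isInvertible_L L hL i) (S.isEffCartier i) (S.cl_L L hL i)).2 ⟨hh1, ?_⟩)
    have hm := sum_prim_inter S L hL i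
    rw [← hal, ← he, hi] at hm
    simp only [Pi.add_apply, Nat.cast_add, add_mul, Finset.sum_add_distrib, Pi.single_apply, Nat.cast_ite,
      Nat.cast_one, Nat.cast_zero, ite_mul, one_mul, zero_mul, Finset.sum_ite_eq', Finset.mem_univ, if_true] at hm
    linarith

section Closed

variable (hH0 : IsIso f.appTop) (hX : Models.IsRegularProperModel R X p C f)

include hH0 hX in
theorem lengthH_redFib_zero (hk : IsAlgClosed (IsLocalRing.ResidueField R)) :
    Models.lengthH R (Over.mk p) (ClSub.quotMod (Models.redFibreIdeal R (Over.mk p))) 0 = 1 := by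
  haveI := hX.2.1
  haveI := hk
  obtain ⟨z, hz1, hz2, hz⟩ := exists_lift_redFib (p := p) _ IsLocalRing.residue_surjective range_specResidue
  let s := Spec.map (CommRingCat.ofHom (IsLocalRing.residue R))
  letI : (redFib p).Over (Spec (CommRingCat.of (IsLocalRing.ResidueField R))) := ⟨z ≫ pullback.snd p s⟩
  haveI : IsProper ((redFib p) ↘ Spec (CommRingCat.of (IsLocalRing.ResidueField R))) := by
    haveI : IsProper (pullback.snd p s) := MorphismProperty.pullback_snd (P := @IsProper) p s inferInstance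
    exact inferInstanceAs (IsProper (z ≫ pullback.snd p s))
  have hq : redFibι p ≫ p = (z ≫ pullback.snd p s) ≫ s := by
    rw [← hz, Category.assoc, pullback.condition, Category.assoc]
  letI : Algebra (IsLocalRing.ResidueField R) Γ(redFib p, ⊤) :=
    GeomField.globalAlgebra (IsLocalRing.ResidueField R) (redFib p)
  haveI : Algebra.IsIntegral (IsLocalRing.ResidueField R) Γ(redFib p, ⊤) := GeomField.algebraMap_integral _ _
  have hF := isField_redFib hH0 hX
  haveI : IsDomain Γ(redFib p, ⊤) := hF.isDomain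
  let ψ : R →+* Γ(redFib p, ⊤) := Coh.toGlobal (redFibι p ≫ p)
  have hψ : Function.Surjective ψ := by
    have h2 : Function.Surjective ((algebraMap (IsLocalRing.ResidueField R) Γ(redFib p, ⊤)).comp (IsLocalRing.residue R)) :=
      (IsAlgClosed.algebraMap_bijective_of_isIntegral (k := IsLocalRing.ResidueField R) (K := Γ(redFib p, ⊤))).2.comp
        IsLocalRing.residue_surjective
    intro t
    obtain ⟨r, hr⟩ := h2 t
    refine ⟨r, Eq.trans ?_ hr⟩
    show Coh.toGlobal (redFibι p ≫ p) r = _
    rw [hq, toGlobal_comp]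
    rfl
  letI : Algebra R Γ(redFib p, ⊤) := ψ.toAlgebra
  letI : X.Over (Spec (CommRingCat.of R)) := ⟨p⟩
  let e : Coh.HH X (ClSub.quotMod (Models.redFibreIdeal R (Over.mk p))) 0 ≃ₗ[R] Γ(redFib p, ⊤) :=
    { secEquiv (Models.redFibreIdeal R (Over.mk p)) with
      map_smul' := fun c x => by
        show secEquiv _ (c • x) = ψ c * secEquiv _ x
        refine (secEquiv_smul _ c x).trans (congrArg (· * secEquiv _ x) ?_)
        exact (MdlInter.toGlobal_comp_left (redFibι p) p c).symm }
  haveI : IsSimpleModule R Γ(redFib p, ⊤) := by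
    refine isSimpleModule_iff_quot_maximal.2 ⟨RingHom.ker ψ, ?_, ⟨?_⟩⟩
    · letI := hF.toField
      exact RingHom.ker_isMaximal_of_surjective ψ hψ
    · exact ((LinearMap.quotKerEquivOfSurjective (Algebra.linearMap R Γ(redFib p, ⊤)) hψ).symm)
  show (Module.length R (Coh.HH X (ClSub.quotMod (Models.redFibreIdeal R (Over.mk p))) 0)).toNat = 1
  rw [e.length_eq, Module.length_eq_one]
  rfl

end Closed

theorem topologicalKrullDim_le_one (hX : Models.IsRegularProperModel R X p C f)
    (hΓ : Models.IsComponentList R (Over.mk p) Γ) : topologicalKrullDim C ≤ 1 := by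
  haveI := hX.2.1
  have S := setting_of_model hX hΓ
  obtain ⟨g, hg⟩ := hX.1.2.2.2
  haveI : IsPreimmersion (Spec.map (CommRingCat.ofHom (algebraMap R (FractionRing R)))) :=
    IsPreimmersion.of_isLocalization (nonZeroDivisors R)
  haveI : IsPreimmersion g := MorphismProperty.of_isPullback hg.flip inferInstance
  let η : Spec (CommRingCat.of R) := (⟨⊥, Ideal.isPrime_bot⟩ : PrimeSpectrum R)
  have hrange : Set.range g = p ⁻¹' {η} := by
    rw [← MdlRegPt.range_generic (R := R), ← Scheme.Pullback.range_fst]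
    rw [← hg.isoPullback_hom_fst, Scheme.Hom.comp_base]
    exact Function.Surjective.range_comp (Scheme.Hom.homeomorph hg.isoPullback.hom).surjective _
  rw [g.isEmbedding.toHomeomorph.isHomeomorph.topologicalKrullDim_eq, hrange,
    ← (p.fiberHomeo η).isHomeomorph.topologicalKrullDim_eq, FibDim.topologicalKrullDim_fiber p η]
  refine iSup_le fun w => ?_
  have hw : closure ({(w : X)} : Set X) ∩ p ⁻¹' {IsLocalRing.closedPoint R} ≠ ∅ := by
    intro h
    have hcl : IsClosed (p '' closure ({(w : X)} : Set X)) := p.isClosedMap _ isClosed_closure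
    have h1 : IsLocalRing.closedPoint R ∈ p '' closure ({(w : X)} : Set X) :=
      ((IsLocalRing.specializes_closedPoint (p (w : X))).mem_closed hcl
        ⟨w, subset_closure rfl, rfl⟩)
    obtain ⟨y, hy, hy'⟩ := h1
    exact Set.notMem_empty y (h ▸ ⟨hy, hy'⟩)
  obtain ⟨x, hx, hxF⟩ := Set.nonempty_iff_ne_empty.2 hw
  obtain ⟨z, -, -, hfz, hle⟩ := FibDim.exists_rd_ge p (specializes_iff_mem_closure.2 hx)
  have hzF : z ∈ Models.specialFibreSet R (Over.mk p) := hfz.trans hxF
  obtain ⟨i, hi⟩ := S.exists_gp hzF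
  haveI : IsClosedImmersion (iotaX (Γ i)) := (Γ i).isClosedImmersion
  have hd := FibDim.dim_closure_inter p z
  have hsub : closure ({z} : Set X) ∩ p ⁻¹' {p z} ⊆ Set.range (iotaX (Γ i)) :=
    Set.inter_subset_left.trans (closure_minimal (Set.singleton_subset_iff.2
      ((MdlInter.mem_range_iff (iotaX (Γ i))).2 hi)) (iotaX (Γ i)).isClosedEmbedding.isClosed_range)
  have h1 : topologicalKrullDim ↥(closure ({z} : Set X) ∩ p ⁻¹' {p z}) ≤ 1 := by
    refine le_trans ((Topology.IsEmbedding.inclusion hsub).isInducing.topologicalKrullDim_le) ?_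
    rw [← (iotaX (Γ i)).isEmbedding.toHomeomorph.isHomeomorph.topologicalKrullDim_eq, (Γ i).dim_eq]
  rw [hd] at h1
  refine le_trans ?_ h1
  exact_mod_cast hle

end Groth.Agent.MdlSection

namespace Groth.Agent.MdlSection

variable {R : Type u} [CommRing R] [IsDomain R] [IsDiscreteValuationRing R]

theorem lengthH_redFib_lt {C X : Scheme.{u}} (hk : IsAlgClosed (IsLocalRing.ResidueField R))
    (fC : C ⟶ Spec (CommRingCat.of (FractionRing R))) [IsProper fC] [Smooth fC]
    (hC0 : Models.hRank (FractionRing R) C fC (Coh.structureModule C) 0 = 1)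
    {g : ℕ} (hg2 : 2 ≤ g) (hg : Models.curveGenus (FractionRing R) C fC = g)
    {p : X ⟶ Spec (CommRingCat.of R)} (hX : Models.IsMinimalModel R X p C fC)
    {n : ℕ} {Γ : Fin n → ArSurf.VertComp R (Over.mk p)} (hΓ : Models.IsComponentList R (Over.mk p) Γ)
    (hgcd : Models.multGcd R (Over.mk p) Γ = 1) (hnr : ∃ i, 2 ≤ Models.mult R (Over.mk p) (Γ i)) :
    Models.lengthH R (Over.mk p) (ClSub.quotMod (Models.redFibreIdeal R (Over.mk p))) 1 < g := by
  letI : C.Over (Spec (CommRingCat.of (FractionRing R))) := ⟨fC⟩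
  haveI : IsProper (C ↘ Spec (CommRingCat.of (FractionRing R))) := ‹IsProper fC›
  haveI : Smooth (C ↘ Spec (CommRingCat.of (FractionRing R))) := ‹Smooth fC›
  have h0 : Module.finrank (FractionRing R) (Coh.HH C (Coh.structureModule C) 0) = 1 := hC0
  have hint : IsIntegral C := CurveBC.isIntegral_of_h0 (FractionRing R) C h0
  have hH0 : IsIso fC.appTop :=
    (ConcreteCategory.isIso_iff_bijective _).2 (CurveBC.bijective_appTop (FractionRing R) C h0)
  have hdim : topologicalKrullDim C = 1 := by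
    refine le_antisymm (topologicalKrullDim_le_one hX.1 hΓ) ?_
    by_contra hlt
    rw [not_le] at hlt
    have hle : topologicalKrullDim C ≤ ((0 : ℕ) : WithBot ℕ∞) := by
      revert hlt
      induction topologicalKrullDim C using WithBot.recBotCoe with
      | bot => exact fun _ => bot_le
      | coe e =>
        intro h
        rw [Nat.cast_zero, ← WithBot.coe_zero, WithBot.coe_le_coe]
        rw [← WithBot.coe_one, WithBot.coe_lt_coe, ENat.lt_one_iff_eq_zero] at h
        exact h.le
    haveI := CurveCohLib.isNoetherian_of_proper (k := FractionRing R) (X := C)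
    haveI : C.IsSeparated := AmpleVan.isSeparated_of_proper (A := FractionRing R)
    haveI := Snapper.subsingleton_HH_of_dim_le (d := 0) (X := C) hle
      (PnCoh.isQCoh_structureModule C) (show 0 < 1 by omega)
    have : Models.curveGenus (FractionRing R) C fC = 0 := Module.finrank_zero_of_subsingleton
    omega
  have hC : Curve.IsSmoothProperCurve (FractionRing R) C fC :=
    ⟨inferInstance, inferInstance, hint, hdim⟩
  obtain ⟨hs0, hle, hlt⟩ := chain_h1 hH0 hX.1 hX.2 hΓ hgcd (lengthH_redFib_zero hH0 hX.1 hk)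
  haveI := hX.1.2.1
  have S := setting_of_model hX.1 hΓ
  have he := euler_prim hC hH0 hX.1 hΓ
  rw [show (∏ i, comp Γ i ^ prim Γ i) = Models.specialFibreIdeal R (Over.mk p) by
    rw [S.specialFibreIdeal_eq]; exact Finset.prod_congr rfl fun i _ => by simp [prim, hgcd],
    hgcd, hs0, hg] at he
  have hlt' := hlt fun h => by
    rw [S.specialFibreIdeal_eq, redFibreIdeal_eq S] at h
    obtain ⟨i, hi⟩ := hnr
    have := congrFun (S.eq_of_prod_eq h) i
    change Models.mult R (Over.mk p) (Γ i) = 1 at this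
    omega
  omega

end Groth.Agent.MdlSection
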