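import Groth.Agent.CurveNondeg.Basic

/-! Invertible modules of negative degree on integral proper curves have no sections. -/

noncomputable section

set_option linter.style.haveILetI false
set_option linter.unusedSectionVars false
set_option backward.isDefEq.respectTransparency false
set_option backward.isDefEq.respectTransparency.types false

universe u

open CategoryTheory CategoryTheory.Limits AlgebraicGeometry
open Groth.Agent Groth.Agent.InvX Groth.Agent.H23 Groth.Agent.CurveEmbed Groth.Agent.CurveBundle
  Groth.Agent.CurveSlope
open Groth.Agent.PnCoh.Finite (mapLin)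

namespace Groth.Agent.MdlSection

variable {X : Scheme.{u}} (k : Type u) [Field k] [X.Over (Spec (CommRingCat.of k))] [IsIntegral X]
  [IsProper (X ↘ Spec (CommRingCat.of k))]

include k in
theorem finrank_h0_le_of_mono {A B : X.Modules} (f : A ⟶ B) [Mono f] (hB : Coh.IsCoh B) :
    Module.finrank k (Coh.HH X A 0) ≤ Module.finrank k (Coh.HH X B 0) := by
  haveI := CurveCohLib.isNoetherian_of_proper (k := k) (X := X)
  haveI := CurveCohLib.finite_HH (k := k) hB 0
  let S : ShortComplex X.Modules := ShortComplex.mk f (cokernel.π f) (cokernel.condition f)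
  have hS : S.ShortExact := shortExact_cokernel_of_mono f
  exact LinearMap.finrank_le_finrank_of_injective
    (f := mapLin k S.f 0) (CurveCohLib.mapLin_f_zero_injective k hS)

include k in
theorem subsingleton_h0_of_deg_neg (hdim : topologicalKrullDim X = 1) {L : X.Modules}
    (hL : PicF.IsInvertible L) (hd : Curv2.deg k X L 1 < 0) : Subsingleton (Coh.HH X L 0) := by
  haveI := CurveCohLib.isNoetherian_of_proper (k := k) (X := X)
  let e := Sheaf.H.equiv₀ (Coh.toAb L) isTerminalTop
  refine subsingleton_of_forall_eq 0 fun t => e.injective ?_
  rw [map_zero]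
  by_contra hs
  let s : Γ(L, ⊤) := e t
  have hle := CurveNondeg.h0_le_deg_add k hdim hL (s := s) hs
  haveI := InvEnd.mono_of_ne_zero (CurveDeg.isInvertible_structureModule (X := X)) hL _ (ofSect_ne_zero hs)
  have hinj := finrank_h0_le_of_mono k (ofSect s) (CurveDeg.isCoh_of_isInvertible hL)
  omega

end Groth.Agent.MdlSection
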