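import Groth.Agent.MdlSection.Chain
import Groth.Prelude.Def_Lef

/-!
# Global functions on nested closed subschemes
-/

noncomputable section

set_option autoImplicit false
set_option linter.style.haveILetI false
set_option linter.unusedSectionVars false
set_option backward.isDefEq.respectTransparency false
set_option backward.isDefEq.respectTransparency.types false
set_option maxHeartbeats 1000000

universe u

open CategoryTheory CategoryTheory.Limits AlgebraicGeometry TopologicalSpace
open Groth.Agent Groth.Agent.MdlInter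
open Groth.Agent.PnCoh.Finite (mapLin)

namespace Groth.Agent.MdlSection

variable {X : Scheme.{u}}

theorem toSubscheme_quotMap {I J : X.IdealSheafData} (h : I ≤ J) :
    ClSub.toSubscheme I ≫ Lef.quotMap h = ClSub.toSubscheme J := by
  refine Scheme.Modules.hom_ext _ _ fun U => AddCommGrpCat.ext fun s => ?_
  have h1 := ConcreteCategory.congr_hom (Scheme.Hom.congr_app (Scheme.IdealSheafData.inclusion_subschemeι h).symm U) s
  refine Eq.trans ?_ h1.symm
  rfl

theorem qmap_eq_quotMap {I J : X.IdealSheafData} (h : I ≤ J) : SurfRR.qmap h = Lef.quotMap h := by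
  haveI := CurvePoint.epi_toSubscheme I
  rw [← cancel_epi (ClSub.toSubscheme I), SurfRR.toSubscheme_qmap, toSubscheme_quotMap]

theorem quotMap_app_top {I J : X.IdealSheafData} (h : I ≤ J) (s : Γ(I.subscheme, ⊤)) :
    (Lef.quotMap h).app ⊤ s = (Scheme.IdealSheafData.inclusion h).appTop s := by
  show (J.subscheme.presheaf.map _) ((Scheme.IdealSheafData.inclusion h).app _ s) = _
  exact congrArg (fun e => J.subscheme.presheaf.map e ((Scheme.IdealSheafData.inclusion h).app _ s))
    (Subsingleton.elim _ (𝟙 _)) |>.trans (by simp)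

/-- Degree zero cohomology of a closed subscheme is its ring of functions. -/
def secEquiv (I : X.IdealSheafData) : Coh.HH X (ClSub.quotMod I) 0 ≃+ Γ(I.subscheme, ⊤) :=
  Sheaf.H.equiv₀ (Coh.toAb (ClSub.quotMod I)) isTerminalTop

variable {R : Type u} [CommRing R] [X.Over (Spec (CommRingCat.of R))]

theorem secEquiv_mapLin {I J : X.IdealSheafData} (h : I ≤ J) (x : Coh.HH X (ClSub.quotMod I) 0) :
    secEquiv J (mapLin R (SurfRR.qmap h) 0 x) = (Scheme.IdealSheafData.inclusion h).appTop (secEquiv I x) := by
  rw [← quotMap_app_top, ← qmap_eq_quotMap]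
  exact (Sheaf.H.equiv₀_naturality isTerminalTop
    ((SheafOfModules.toSheaf X.ringCatSheaf).map (SurfRR.qmap h)) x).symm

theorem secEquiv_smul (I : X.IdealSheafData) (a : R) (x : Coh.HH X (ClSub.quotMod I) 0) :
    secEquiv I (a • x) = I.subschemeι.appTop (Coh.toGlobal (X ↘ Spec (CommRingCat.of R)) a) * secEquiv I x := by
  refine (Sheaf.H.equiv₀_naturality isTerminalTop
    (Coh.smulAb (ClSub.quotMod I) (Coh.toGlobal (X ↘ Spec (CommRingCat.of R)) a)) x).symm.trans ?_
  show I.subschemeι.app ⊤ (Coh.resTop X (Opposite.op ⊤) (Coh.toGlobal (X ↘ Spec (CommRingCat.of R)) a)) * _ = _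
  congr 2
  show (X.presheaf.map (homOfLE le_top).op).hom _ = _
  rw [show (homOfLE le_top).op = 𝟙 (Opposite.op (⊤ : X.Opens)) from rfl, X.presheaf.map_id]
  rfl

end Groth.Agent.MdlSection
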